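import Mathlib

/-!
# An alternating form attached to an element of an orthogonal group

For an invertible `y` and a symmetric matrix `D` (the dual Gram matrix) it is the contraction of
the determinant with two copies of the skew part `y - y⁻¹`.
-/

set_option autoImplicit false

namespace Cfsg.Lib.OmegaSeven

open scoped Matrix

variable (F : Type*) [Field F] (n : ℕ)

/-- Four vectors inserted into an alternating form. -/
noncomputable def insFour {M : Type*} [AddCommGroup M] [Module F M] (d : M [⋀^Fin (n + 4)]→ₗ[F] F) :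
    M →ₗ[F] M →ₗ[F] M →ₗ[F] M →ₗ[F] M [⋀^Fin n]→ₗ[F] F :=
  LinearMap.comp (LinearMap.llcomp F M _ _
    (LinearMap.llcomp F M _ _ (AlternatingMap.curryLeftLinearMap (n := n))))
    (LinearMap.comp (LinearMap.llcomp F M _ _ (AlternatingMap.curryLeftLinearMap (n := n + 1)))
      (LinearMap.comp (AlternatingMap.curryLeftLinearMap (n := n + 2)) (AlternatingMap.curryLeft (n := n + 3) d)))

theorem insFour_apply {M : Type*} [AddCommGroup M] [Module F M] (d : M [⋀^Fin (n + 4)]→ₗ[F] F)
    (a b c e : M) (u : Fin n → M) :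
    insFour F n d a b c e u = d (Matrix.vecCons a (Matrix.vecCons b (Matrix.vecCons c (Matrix.vecCons e u)))) :=
  rfl

variable {m : ℕ} (hm : m = n + 4)

/-- Four vectors inserted into the determinant. -/
noncomputable def detFour :
    (Fin m → F) →ₗ[F] (Fin m → F) →ₗ[F] (Fin m → F) →ₗ[F] (Fin m → F) →ₗ[F]
      (Fin m → F) [⋀^Fin n]→ₗ[F] F :=
  insFour F n ((Matrix.detRowAlternating (R := F) (n := Fin m)).domDomCongr (finCongr hm))

theorem detFour_apply (a b c e : Fin m → F) (u : Fin n → Fin m → F) :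
    detFour F n hm a b c e u = Matrix.det (Matrix.of fun r : Fin m =>
      Matrix.vecCons a (Matrix.vecCons b (Matrix.vecCons c (Matrix.vecCons e u))) (finCongr hm r)) :=
  insFour_apply F n _ a b c e u

theorem alt_sum_apply {α : Type*} (s : Finset α) (f : α → (Fin m → F) [⋀^Fin n]→ₗ[F] F)
    (u : Fin n → Fin m → F) :
    (∑ x ∈ s, f x) u = ∑ x ∈ s, f x u := by
  classical
  induction s using Finset.induction_on with
  | empty => rfl
  | insert a t ha ih => rw [Finset.sum_insert ha, Finset.sum_insert ha, AlternatingMap.add_apply, ih]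

variable (D : Matrix (Fin m) (Fin m) F)

/-- The skew part. -/
def skewPart (y : GL (Fin m) F) : Matrix (Fin m) (Fin m) F :=
  y.val - (y⁻¹ : GL (Fin m) F).val

/-- The alternating form of an element. -/
noncomputable def trivGen (y : GL (Fin m) F) : (Fin m → F) [⋀^Fin n]→ₗ[F] F :=
  ∑ i, ∑ k, detFour F n hm (skewPart F y *ᵥ Pi.single i 1) (D *ᵥ Pi.single i 1)
    (skewPart F y *ᵥ Pi.single k 1) (D *ᵥ Pi.single k 1)

/-- Summation over dual bases does not depend on the basis. -/
theorem sum_dual_act {M : Type*} [AddCommGroup M] [Module F M] (hD : Dᵀ = D) (g : GL (Fin m) F)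
    (hg : g.val * D * g.valᵀ = D) (φ : (Fin m → F) →ₗ[F] (Fin m → F) →ₗ[F] M) :
    ∑ i, φ (g.val *ᵥ Pi.single i 1) (g.val *ᵥ (D *ᵥ Pi.single i 1)) =
      ∑ i, φ (Pi.single i 1) (D *ᵥ Pi.single i 1) := by
  classical
  have hcol : ∀ (N : Matrix (Fin m) (Fin m) F) i,
      N *ᵥ Pi.single i 1 = ∑ a, N a i • (Pi.single a 1 : Fin m → F) := fun N i => by
    funext x; simp [Pi.single_apply]
  have key : ∀ A E : Matrix (Fin m) (Fin m) F,
      ∑ i, φ (A *ᵥ Pi.single i 1) (E *ᵥ Pi.single i 1) =
        ∑ a, ∑ b, (A * Eᵀ) a b • φ (Pi.single a 1) (Pi.single b 1) := by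
    intro A E
    have h : ∀ i, φ (A *ᵥ Pi.single i 1) (E *ᵥ Pi.single i 1) =
        ∑ a, ∑ b, (A a i * E b i) • φ (Pi.single a 1) (Pi.single b 1) := fun i => by
      rw [hcol A, hcol E]
      simp only [map_sum, LinearMap.sum_apply, map_smul, LinearMap.smul_apply, Finset.smul_sum, smul_smul]
      rw [Finset.sum_comm]
      exact Finset.sum_congr rfl fun a _ => Finset.sum_congr rfl fun b _ => by rw [mul_comm]
    rw [Finset.sum_congr rfl fun i _ => h i, Finset.sum_comm]
    refine Finset.sum_congr rfl fun a _ => ?_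
    rw [Finset.sum_comm]
    refine Finset.sum_congr rfl fun b _ => ?_
    rw [← Finset.sum_smul]
    rfl
  have h1 := key g.val (g.val * D)
  have h2 := key 1 D
  simp only [← Matrix.mulVec_mulVec] at h1
  simp only [Matrix.one_mulVec] at h2
  rw [h1, h2, Matrix.transpose_mul, ← Matrix.mul_assoc, one_mul, hD, hg]

/-- The alternating form is equivariant. -/
theorem trivGen_conj (hD : Dᵀ = D) (g : GL (Fin m) F) (hg : g.val * D * g.valᵀ = D)
    (y : GL (Fin m) F) (u : Fin n → Fin m → F) :
    trivGen F n hm D (g * y * g⁻¹) (fun i => g.val *ᵥ u i) = g.val.det * trivGen F n hm D y u := by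
  classical
  have hA : skewPart F (g * y * g⁻¹) = g.val * skewPart F y * (g⁻¹ : GL (Fin m) F).val := by
    simp [skewPart, Matrix.mul_sub, Matrix.sub_mul, Matrix.mul_assoc]
  have hAg : ∀ w, skewPart F (g * y * g⁻¹) *ᵥ (g.val *ᵥ w) = g.val *ᵥ (skewPart F y *ᵥ w) := fun w => by
    simp [hA, Matrix.mulVec_mulVec, Matrix.mul_assoc]
  set A := skewPart F (g * y * g⁻¹) with hAdef
  let φ := fun a b => (detFour F n hm a b).comp A.mulVecLin
  have inner : ∀ a b, ∑ k, detFour F n hm a b (A *ᵥ Pi.single k 1) (D *ᵥ Pi.single k 1) =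
      ∑ k, detFour F n hm a b (A *ᵥ (g.val *ᵥ Pi.single k 1)) (g.val *ᵥ (D *ᵥ Pi.single k 1)) :=
    fun a b => (sum_dual_act F D hD g hg (φ a b)).symm
  let ψ : (Fin m → F) →ₗ[F] (Fin m → F) →ₗ[F] (Fin m → F) [⋀^Fin n]→ₗ[F] F :=
    LinearMap.mk₂ F (fun a b => ∑ k, detFour F n hm (A *ᵥ a) b (A *ᵥ Pi.single k 1) (D *ᵥ Pi.single k 1))
      (fun x₁ x₂ d => by simp only [Matrix.mulVec_add, map_add, LinearMap.add_apply, Finset.sum_add_distrib])
      (fun r x d => by simp only [Matrix.mulVec_smul, map_smul, LinearMap.smul_apply, Finset.smul_sum])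
      (fun c x₁ x₂ => by simp only [map_add, LinearMap.add_apply, Finset.sum_add_distrib])
      (fun r c x => by simp only [map_smul, LinearMap.smul_apply, Finset.smul_sum])
  have outer : trivGen F n hm D (g * y * g⁻¹) = ∑ i, ∑ k, detFour F n hm (A *ᵥ (g.val *ᵥ Pi.single i 1))
      (g.val *ᵥ (D *ᵥ Pi.single i 1)) (A *ᵥ Pi.single k 1) (D *ᵥ Pi.single k 1) :=
    (sum_dual_act F D hD g hg ψ).symm
  rw [outer]
  simp only [inner, trivGen, alt_sum_apply, hAg, Finset.mul_sum, detFour_apply]
  refine Finset.sum_congr rfl fun i _ => Finset.sum_congr rfl fun k _ => ?_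
  rw [mul_comm, ← Matrix.det_transpose g.val, ← Matrix.det_mul]
  congr 1
  refine Matrix.ext fun r c => ?_
  have h7 : ∀ w : Fin m → F, (g.val *ᵥ w) c = ∑ j, w j * g.valᵀ j c := fun w => by
    simp [Matrix.mulVec, dotProduct, mul_comm]
  simp only [Matrix.of_apply, Matrix.mul_apply]
  rcases finCongr hm r with ⟨_ | _ | _ | _ | r', hr⟩ <;> simp [h7]

/-- On commutators the determinant disappears. -/
theorem trivGen_conj_commutator (hD : Dᵀ = D) (H : Subgroup (GL (Fin m) F))
    (hH : ∀ g ∈ H, g.val * D * g.valᵀ = D) (g : ↥H) (hg : g ∈ commutator ↥H)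
    (y : GL (Fin m) F) (u : Fin n → Fin m → F) :
    trivGen F n hm D ((g : GL (Fin m) F) * y * (g : GL (Fin m) F)⁻¹)
      (fun i => (g : GL (Fin m) F).val *ᵥ u i) = trivGen F n hm D y u := by
  rw [trivGen_conj F n hm D hD _ (hH g g.2)]
  have h : (Matrix.GeneralLinearGroup.det.comp H.subtype) g = 1 :=
    MonoidHom.mem_ker.mp (Abelianization.commutator_subset_ker _ hg)
  have h' := congrArg Units.val h
  simp only [MonoidHom.comp_apply, Subgroup.coe_subtype, Units.val_one,
    Matrix.GeneralLinearGroup.val_det_apply] at h'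
  rw [h', one_mul]

/-- An element and its inverse have the same form. -/
theorem trivGen_inv (y : GL (Fin m) F) : trivGen F n hm D y⁻¹ = trivGen F n hm D y := by
  have h : skewPart F y⁻¹ = -skewPart F y := by simp [skewPart]
  refine AlternatingMap.ext fun u => ?_
  simp only [trivGen, h, alt_sum_apply, Matrix.neg_mulVec, detFour_apply]
  refine Finset.sum_congr rfl fun i _ => Finset.sum_congr rfl fun k _ => ?_
  have e : ∀ a b c d : Fin m → F, detFour F n hm (-a) b (-c) d u = detFour F n hm a b c d u := fun a b c d => by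
    rw [← neg_one_smul F a, ← neg_one_smul F c]
    simp only [LinearMap.map_smul, LinearMap.smul_apply, AlternatingMap.smul_apply, smul_eq_mul]
    ring
  have := e (skewPart F y *ᵥ Pi.single i 1) (D *ᵥ Pi.single i 1) (skewPart F y *ᵥ Pi.single k 1) (D *ᵥ Pi.single k 1)
  rwa [detFour_apply, detFour_apply] at this

/-- The determinant by expansion along the first row, skipping the zero entries. -/
def detExpand {R : Type*} [CommRing R] [DecidableEq R] : (k : ℕ) → (Fin k → Fin k → R) → R
  | 0, _ => 1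
  | k + 1, M => ((List.finRange (k + 1)).map fun j : Fin (k + 1) =>
      if M 0 j = 0 then 0 else (-1) ^ (j : ℕ) * M 0 j * detExpand k fun a b => M a.succ (j.succAbove b)).sum

theorem detExpand_eq {R : Type*} [CommRing R] [DecidableEq R] :
    ∀ (k : ℕ) (M : Fin k → Fin k → R), detExpand k M = Matrix.det (Matrix.of M)
  | 0, M => by simp [detExpand]
  | k + 1, M => by
    rw [Matrix.det_succ_row_zero, detExpand, ← List.ofFn_eq_map, List.sum_ofFn]
    refine Finset.sum_congr rfl fun j _ => ?_
    rw [detExpand_eq k]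
    split_ifs with h
    · simp [h]
    · rfl

/-- The value of the form through expansions. -/
theorem trivGen_apply [DecidableEq F] (y : GL (Fin m) F) (u : Fin n → Fin m → F) :
    trivGen F n hm D y u = ∑ i, ∑ k, detExpand m fun r =>
      Matrix.vecCons (fun x => skewPart F y x i) (Matrix.vecCons (fun x => D x i)
        (Matrix.vecCons (fun x => skewPart F y x k) (Matrix.vecCons (fun x => D x k) u))) (finCongr hm r) := by
  simp only [trivGen, alt_sum_apply, detFour_apply, detExpand_eq, Matrix.mulVec_single_one]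
  rfl

attribute [irreducible] trivGen detFour

end Cfsg.Lib.OmegaSeven
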