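import Cfsg.Agent.Lib.Linear.OrthSpinor
import Cfsg.Agent.Lib.Linear.OrthOrderStd
import Cfsg.Agent.Lib.OmegaSeven.Trivector

/-!
# Ω₇(3) in upper triangular coordinates

The basis is `e₁ e₂ e₃ x f₃ f₂ f₁`, so that a Sylow 3-subgroup is upper unitriangular.
-/

set_option autoImplicit false

namespace Cfsg.Lib.OmegaSeven

open Cfsg Cfsg.Lib.Linear.Orth
open scoped Matrix

abbrev K := ZMod 3

instance : Fact (Nat.Prime 3) := ⟨by norm_num⟩

abbrev V := Fin 7 → K

/-- The quadratic form. -/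
def Q7 (v : V) : K := v 3 ^ 2 + v 0 * v 6 + v 1 * v 5 + v 2 * v 4

/-- The Gram matrix, which is its own inverse. -/
def gram : Matrix (Fin 7) (Fin 7) K := fun i j =>
  if (i : ℕ) + j = 6 then (if (i : ℕ) = 3 then 2 else 1) else 0

/-- The bilinear form. -/
noncomputable def B7 : LinearMap.BilinForm K V := Matrix.toLinearMap₂' K gram

theorem B7_eq (u v : V) : B7 u v = u ⬝ᵥ gram *ᵥ v := Matrix.toLinearMap₂'_apply' gram u v

theorem B7_apply (u v : V) :
    B7 u v = u 0 * v 6 + u 1 * v 5 + u 2 * v 4 + 2 * u 3 * v 3 + u 4 * v 2 + u 5 * v 1 + u 6 * v 0 := by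
  rw [B7_eq]
  simp [dotProduct, Matrix.mulVec, gram, Fin.sum_univ_seven]
  ring

theorem gram_mul_gram : gram * gram = 1 := by decide +kernel

theorem space7 : Space Q7 B7 where
  smul c v := by simp only [Q7, Pi.smul_apply, smul_eq_mul]; ring
  polar u v := by
    rw [B7_apply]
    simp only [QuadraticMap.polar, Q7, Pi.add_apply]
    ring
  nondeg v hv := by
    have h : gram *ᵥ v = 0 := by
      funext i
      have := hv (Pi.single i 1)
      rwa [B7_eq, single_dotProduct, one_mul] at this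
    have h' := congrArg (gram *ᵥ ·) h
    simpa [Matrix.mulVec_mulVec, gram_mul_gram] using h'

/-- The isometry group. -/
abbrev G7 : Subgroup (GL (Fin 7) K) := isometryGroup K Q7

theorem gram_inv {g : GL (Fin 7) K} (hg : g ∈ G7) : g.valᵀ * gram * g.val = gram := by
  refine Matrix.ext fun i j => ?_
  have h := space7.B_act hg (Pi.single i 1) (Pi.single j 1)
  rw [B7_eq, B7_eq, Matrix.mulVec_single_one, Matrix.mulVec_single_one] at h
  simp [Matrix.mul_apply, dotProduct, Matrix.mulVec, Finset.mul_sum, Finset.sum_mul, mul_assoc,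
    Pi.single_apply] at h ⊢
  rw [Finset.sum_comm]
  exact h

theorem gram_conj {g : GL (Fin 7) K} (hg : g ∈ G7) : g.val * gram * g.valᵀ = gram := by
  have h := gram_inv hg
  have h1 : (g.val * gram * g.valᵀ) * gram * g.val = g.val := by
    rw [show g.val * gram * g.valᵀ * gram * g.val = g.val * gram * (g.valᵀ * gram * g.val) by
      simp only [Matrix.mul_assoc], h, Matrix.mul_assoc, gram_mul_gram, Matrix.mul_one]
  have h2 : g.val * gram * g.valᵀ * gram = 1 := by
    have := congrArg (· * ((g⁻¹ : GL (Fin 7) K) : Matrix (Fin 7) (Fin 7) K)) h1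
    simpa [Matrix.mul_assoc] using this
  have := congrArg (· * gram) h2
  simpa [Matrix.mul_assoc, gram_mul_gram] using this

/-- The indexing of the standard form. -/
def idx : Unit ⊕ (Fin 3 ⊕ Fin 3) ≃ Fin 7 where
  toFun := Sum.elim (fun _ => 3) (Sum.elim ![0, 1, 2] ![6, 5, 4])
  invFun := ![.inr (.inl 0), .inr (.inl 1), .inr (.inl 2), .inl (), .inr (.inr 2), .inr (.inr 1), .inr (.inr 0)]
  left_inv := by decide
  right_inv := by decide

theorem Q7_idx (v : V) : Cfsg.quadFormOdd 3 K (v ∘ idx) = Q7 v := by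
  simp [Cfsg.quadFormOdd, Q7, idx, Fin.sum_univ_three]
  ring

/-- The transfer of matrices. -/
noncomputable def glIdx : GL (Unit ⊕ (Fin 3 ⊕ Fin 3)) K ≃* GL (Fin 7) K :=
  Units.mapEquiv (Matrix.reindexAlgEquiv K K idx).toMulEquiv

theorem glIdx_mulVec (g : GL (Unit ⊕ (Fin 3 ⊕ Fin 3)) K) (v : V) :
    ((glIdx g).val *ᵥ v) ∘ idx = g.val *ᵥ (v ∘ idx) := by
  show ((Matrix.reindex idx idx g.val) *ᵥ v) ∘ idx = _
  funext i
  simp [Matrix.mulVec, dotProduct, Matrix.reindex_apply, ← idx.sum_comp]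

theorem iso_map : (isometryGroup K (Cfsg.quadFormOdd 3 K)).map glIdx.toMonoidHom = G7 := by
  refine Subgroup.ext fun g => ⟨?_, fun hg => ?_⟩
  · rintro ⟨g, hg, rfl⟩
    refine mem_iso.mpr fun v => ?_
    show Q7 ((glIdx g).val *ᵥ v) = _
    rw [← Q7_idx, glIdx_mulVec, mem_iso.mp hg, Q7_idx]
  · refine ⟨glIdx.symm g, mem_iso.mpr fun v => ?_, glIdx.apply_symm_apply g⟩
    obtain ⟨w, rfl⟩ : ∃ w : V, w ∘ idx = v := ⟨v ∘ idx.symm, by funext i; simp⟩
    rw [← glIdx_mulVec, MulEquiv.apply_symm_apply, Q7_idx, Q7_idx, mem_iso.mp hg]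

/-- The isomorphism with the standard isometry group. -/
noncomputable def isoIdx : ↥(isometryGroup K (Cfsg.quadFormOdd 3 K)) ≃* ↥G7 :=
  (glIdx.subgroupMap _).trans (MulEquiv.subgroupCongr iso_map)

theorem card_G7 : Nat.card ↥G7 = 3 ^ 9 * ((2 * 4) * (8 * 10) * (26 * 28) * 2) := by
  rw [← Nat.card_congr isoIdx.toEquiv]
  have h := (counts_odd (F := K) (by decide) 3).2.2
  simp [Finset.prod_range_succ] at h
  norm_num at h ⊢
  exact_mod_cast h

/-! ## Matrices given by lists of entries -/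

/-- A matrix from its rows. -/
def toM (A : List (List ℕ)) : Matrix (Fin 7) (Fin 7) K := fun i j => (((A.getD i []).getD j 0 : ℕ) : K)

def seven : List ℕ := [0, 1, 2, 3, 4, 5, 6]

/-- The product of two lists of rows. -/
def mulN (A B : List (List ℕ)) : List (List ℕ) := seven.map fun i =>
  let r := A.getD i []
  seven.map fun j => (r.getD 0 0 * (B.getD 0 []).getD j 0 + r.getD 1 0 * (B.getD 1 []).getD j 0 +
    r.getD 2 0 * (B.getD 2 []).getD j 0 + r.getD 3 0 * (B.getD 3 []).getD j 0 +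
    r.getD 4 0 * (B.getD 4 []).getD j 0 + r.getD 5 0 * (B.getD 5 []).getD j 0 +
    r.getD 6 0 * (B.getD 6 []).getD j 0) % 3

theorem getD_seven {α : Type*} (f : ℕ → α) (d : α) {i : ℕ} (hi : i < 7) :
    (seven.map f).getD i d = f i := by
  interval_cases i <;> rfl

theorem toM_mulN (A B : List (List ℕ)) : toM (mulN A B) = toM A * toM B := by
  refine Matrix.ext fun i j => ?_
  simp only [toM, mulN, Matrix.mul_apply, Fin.sum_univ_seven]
  rw [getD_seven _ _ i.2, getD_seven _ _ j.2]
  push_cast [ZMod.natCast_mod]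
  simp

/-- The image of a coordinate list. -/
def apN (A : List (List ℕ)) (v : List ℕ) : List ℕ := seven.map fun i =>
  let r := A.getD i []
  (r.getD 0 0 * v.getD 0 0 + r.getD 1 0 * v.getD 1 0 + r.getD 2 0 * v.getD 2 0 + r.getD 3 0 * v.getD 3 0 +
    r.getD 4 0 * v.getD 4 0 + r.getD 5 0 * v.getD 5 0 + r.getD 6 0 * v.getD 6 0) % 3

/-- A vector from its coordinates. -/
def toV (v : List ℕ) : V := fun i => ((v.getD i 0 : ℕ) : K)

theorem toV_apN (A : List (List ℕ)) (v : List ℕ) : toV (apN A v) = toM A *ᵥ toV v := by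
  funext i
  simp only [toV, apN, toM, Matrix.mulVec, dotProduct, Fin.sum_univ_seven]
  rw [getD_seven _ _ i.2]
  push_cast [ZMod.natCast_mod]
  simp

/-! ## The alternating invariants -/

theorem hseven : 7 = 3 + 4 := by norm_num

/-- The trivector of an element. -/
noncomputable def triv (y : GL (Fin 7) K) : V [⋀^Fin 3]→ₗ[K] K := trivGen K 3 hseven gram y

theorem gram_symm : gramᵀ = gram := by decide +kernel

/-- The trivector is equivariant. -/
theorem triv_conj {g : ↥G7} (hg : g ∈ commutator ↥G7) (y : GL (Fin 7) K) (u : Fin 3 → V) :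
    triv ((g : GL (Fin 7) K) * y * (g : GL (Fin 7) K)⁻¹) (fun i => (g : GL (Fin 7) K).val *ᵥ u i) =
      triv y u :=
  (congrArg (⇑(triv ((g : GL (Fin 7) K) * y * (g : GL (Fin 7) K)⁻¹)))
      (show (fun i => (g : GL (Fin 7) K).val *ᵥ u i) = fun i => @Matrix.mulVec (Fin 7) (Fin 7) K
        (@NonUnitalNonAssocRing.toNonUnitalNonAssocSemiring K
          (@NonUnitalNonAssocCommRing.toNonUnitalNonAssocRing K
            (@NonUnitalCommRing.toNonUnitalNonAssocCommRing K
              (@CommRing.toNonUnitalCommRing K Field.toCommRing)))) _ (g : GL (Fin 7) K).val (u i) from rfl)).trans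
    (trivGen_conj_commutator K 3 hseven gram gram_symm G7 (fun _ h => gram_conj h) g hg y u)

/-- The form of a frame. -/
noncomputable def frameForm (l : Fin 3 → V) : V [⋀^Fin 3]→ₗ[K] K :=
  (Matrix.detRowAlternating (R := K) (n := Fin 3)).compLinearMap (LinearMap.pi fun i => B7 (l i))

theorem frameForm_apply (l u : Fin 3 → V) :
    frameForm l u = Matrix.det (Matrix.of fun a i => B7 (l i) (u a)) := rfl

theorem frameForm_comb (l : Fin 3 → V) (C : Matrix (Fin 3) (Fin 3) K) :
    frameForm (fun i => ∑ j, C i j • l j) = C.det • frameForm l := by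
  refine AlternatingMap.ext fun u => ?_
  rw [AlternatingMap.smul_apply, frameForm_apply, frameForm_apply, smul_eq_mul, mul_comm,
    ← Matrix.det_transpose C, ← Matrix.det_mul]
  congr 1
  refine Matrix.ext fun a i => ?_
  simp [Matrix.mul_apply, mul_comm]

theorem frameForm_act {g : GL (Fin 7) K} (hg : g ∈ G7) (l u : Fin 3 → V) :
    frameForm (fun i => g.val *ᵥ l i) (fun a => g.val *ᵥ u a) = frameForm l u := by
  simp only [frameForm_apply, space7.B_act hg]

end Cfsg.Lib.OmegaSeven
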