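import Cfsg.Agent.Lib.OmegaSeven.Values

/-!
# The seven classes of subgroups of order three of Ω₇(3)
-/

set_option autoImplicit false
set_option maxRecDepth 100000
set_option maxHeartbeats 1000000

namespace Cfsg.Lib.OmegaSeven

open Cfsg Cfsg.Lib.Linear.Orth
open scoped Matrix

theorem unpack_rowMul {A : Matrix (Fin 7) (Fin 7) K} {P : ℕ → ℕ} (hP : ∀ j : Fin 7, P j = packV (A j))
    (q : ℕ) : unpack (rowMul q P) = unpack q ᵥ* A := by
  rw [rowMul, lin7_mulVec (A := Aᵀ) (fun j => hP j), Matrix.mulVec_transpose]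

theorem unpack_unit (j : Fin 7) : unpack (64 ^ (j : ℕ)) = Pi.single j 1 := by
  revert j
  decide +kernel

theorem cube_witness {p : ℕ} (hp : p < 19683) (h : node p % 8 < 7) : uI p ^ 3 ≠ 1 := by
  intro h3
  have hc := nodes_ok p hp
  simp only [chkNode, if_pos h, bne_iff_ne] at hc
  set j : Fin 7 := ⟨node p % 8, h⟩ with hj
  have e : uMat p * uMat p * uMat p = 1 := by
    have := congrArg (fun g : ↥G7 => (g : GL (Fin 7) K).val) h3
    simpa [uI, pow_succ, uGL_val] using this
  have e1 : unpack (red3 (rowMul (red3 (rowMul (mRow p j) (mRow p))) (mRow p))) = unpack (64 ^ (j : ℕ)) := by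
    rw [unpack_red3, unpack_rowMul (mRow_eq p), unpack_red3, unpack_rowMul (mRow_eq p), unpack_mRow,
      unpack_unit]
    have := congrFun (congrArg (fun M : Matrix (Fin 7) (Fin 7) K => fun i => M i) e) j
    simp only [Matrix.mul_apply_eq_vecMul] at this
    rw [this]
    funext x
    simp [Matrix.one_apply, Pi.single_apply, eq_comm]
  refine hc ?_
  have hlt : ∀ q i, lane q i % 3 < 3 := lane3_lt
  have hred : ∀ q, red3 q = packV (unpack q) := fun q => by
    simp only [red3, packV, unpack, ZMod.val_natCast]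
  show red3 _ = 64 ^ (node p % 8)
  rw [show node p % 8 = (j : ℕ) from rfl, hred, ← unpack_red3, e1, unpack_unit]
  exact (by decide +kernel : ∀ i : Fin 7, packV (Pi.single i 1) = 64 ^ (i : ℕ)) j

theorem edge_conj {p : ℕ} (hp : p < 19683) (h7 : ¬ node p % 8 < 7) (h9 : node p / 128 % 10 ≠ 9) :
    ∃ q, q < 19683 ∧ node q % 8 = 7 ∧ node q / 8 % 16 < node p / 8 % 16 ∧
      ∃ g : ↥G7, g ∈ O7' ∧ g * uI p * g⁻¹ = uI q := by
  have hc := nodes_ok p hp
  simp only [chkNode, if_neg h7, if_neg h9, Bool.and_eq_true, decide_eq_true_eq, beq_iff_eq,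
    List.all_eq_true] at hc
  obtain ⟨⟨⟨⟨hq, hq7⟩, hd⟩, hk⟩, hrows⟩ := hc
  set k := node p / 128 % 10
  set q := node p / 1280
  have hk12 : k < 12 := by omega
  refine ⟨q, hq, hq7, hd, gI k hk12, gI_mem hk12, ?_⟩
  rw [mul_inv_eq_iff_eq_mul]
  refine Subtype.ext (Units.ext ?_)
  show ((gGL k * uGL p : GL (Fin 7) K)).val = ((uGL q * gGL k : GL (Fin 7) K)).val
  rw [Units.val_mul, Units.val_mul, uGL_val, uGL_val, gGL_val hk12]
  have hg : ∀ i : Fin 12, ∀ j : Fin 7, gRow i j = packV (toM (gLst i) j) := by decide +kernel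
  refine Matrix.ext fun i x => ?_
  have h := unpack_of_red3_eq (hrows (i : ℕ) (by fin_cases i <;> simp))
  rw [unpack_rowMul (mRow_eq p), unpack_rowMul (hg ⟨k, hk12⟩), hg ⟨k, hk12⟩ i, unpack_packV, unpack_mRow] at h
  simp only [Matrix.mul_apply_eq_vecMul]
  rw [h]

theorem conj_rep : ∀ d p, p < 19683 → node p % 8 = 7 → node p / 8 % 16 = d → p ≠ 0 →
    ∃ g : ↥G7, g ∈ O7' ∧ ∃ r : Fin 7, g * uI p * g⁻¹ = uI (rep r) := by
  intro d
  induction d using Nat.strong_induction_on with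
  | _ d ih =>
    intro p hp h7 hd h0
    have h7' : ¬ node p % 8 < 7 := by omega
    by_cases h9 : node p / 128 % 10 = 9
    · have hc := nodes_ok p hp
      simp only [chkNode, if_neg h7', if_pos h9, Bool.or_eq_true, beq_iff_eq, rootList] at hc
      rcases hc with hc | hc
      · exact absurd hc h0
      · have : ∃ r, rep r = p := by
          simp only [List.contains_iff_mem, List.mem_cons, List.not_mem_nil, or_false] at hc
          rcases hc with rfl | rfl | rfl | rfl | rfl | rfl | rfl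
          exacts [⟨0, rfl⟩, ⟨1, rfl⟩, ⟨2, rfl⟩, ⟨3, rfl⟩, ⟨4, rfl⟩, ⟨5, rfl⟩, ⟨6, rfl⟩]
        obtain ⟨r, rfl⟩ := this
        exact ⟨1, one_mem _, r, by simp⟩
    · obtain ⟨q, hq, hq7, hlt, g, hg, he⟩ := edge_conj hp h7' h9
      have hq0 : q ≠ 0 := by
        rintro rfl
        have : node 0 / 8 % 16 = 15 := by decide +kernel
        omega
      obtain ⟨g', hg', r, he'⟩ := ih _ (hd ▸ hlt) q hq hq7 rfl hq0
      exact ⟨g' * g, mul_mem hg' hg, r, by rw [← he', ← he]; group⟩

theorem uI_zero : uI 0 = 1 := by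
  refine Subtype.ext (Units.ext ?_)
  show (uGL 0).val = 1
  rw [uGL_val]
  decide +kernel

/-- Every element of order three of the commutator subgroup is conjugate to a representative. -/
theorem exists_rep {x : ↥G7} (hx : x ∈ O7') (h3 : x ^ 3 = 1) (h1 : x ≠ 1) :
    ∃ g : ↥G7, g ∈ O7' ∧ ∃ r : Fin 7, g * x * g⁻¹ = uI (rep r) := by
  let U : Subgroup ↥O7' := Uni.subgroupOf O7'
  have hU : Nat.card ↥U = 3 ^ 9 := by
    rw [Nat.card_congr (Subgroup.subgroupOfEquivOfLe Uni_le).toEquiv, card_Uni]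
  obtain ⟨m, hm⟩ : ∃ m, Nat.card ↥O7' * m = 3 ^ 9 * ((2 * 4) * (8 * 10) * (26 * 28) * 2) :=
    ⟨_, card_G7 ▸ (Subgroup.card_mul_index O7')⟩
  let xS : ↥O7' := ⟨x, hx⟩
  have hP : IsPGroup 3 ↥(Subgroup.zpowers xS) :=
    IsPGroup.of_card (n := 1) (by
      rw [Nat.card_zpowers, pow_one]
      refine orderOf_eq_prime (Subtype.ext ?_) (fun h => h1 (congrArg Subtype.val h))
      simpa using h3)
  obtain ⟨S, hS⟩ := hP.exists_le_sylow
  have hUS : ∃ T : Sylow 3 ↥O7', (T : Subgroup ↥O7') = U := by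
    obtain ⟨T, hT⟩ := (IsPGroup.of_card hU).exists_le_sylow
    refine ⟨T, (Subgroup.eq_of_le_of_card_ge hT ?_).symm⟩
    obtain ⟨n, hn⟩ := T.2.exists_card_eq
    rw [hU, hn]
    refine Nat.pow_le_pow_right (by norm_num) ?_
    by_contra! h
    have hd : 3 ^ 10 ∣ 3 ^ 9 * ((2 * 4) * (8 * 10) * (26 * 28) * 2) :=
      (pow_dvd_pow 3 h).trans ((hn ▸ Subgroup.card_subgroup_dvd_card (T : Subgroup ↥O7')).trans ⟨m, hm.symm⟩)
    norm_num at hd
  obtain ⟨T, hT⟩ := hUS
  obtain ⟨c, hc⟩ := MulAction.exists_smul_eq ↥O7' S T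
  have hmem : c * xS * c⁻¹ ∈ U := by
    rw [← hT, ← hc]
    exact Subgroup.mem_map_of_mem _ (hS (Subgroup.mem_zpowers xS))
  obtain ⟨p, hp, hpe⟩ := mem_Uni_iff.mp (Subgroup.mem_subgroupOf.mp hmem)
  have hp3 : uI p ^ 3 = 1 := by
    rw [← hpe]
    show ((c : ↥G7) * x * (c : ↥G7)⁻¹) ^ 3 = 1
    rw [conj_pow, h3]; simp
  have hp0 : p ≠ 0 := by
    rintro rfl
    rw [uI_zero] at hpe
    refine h1 ?_
    have : (c : ↥G7) * x * (c : ↥G7)⁻¹ = 1 := hpe
    simpa using conj_eq_one_iff.mp this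
  have h7 : node p % 8 = 7 := by
    by_contra h
    exact cube_witness hp (by omega) hp3
  obtain ⟨g, hg, r, hr⟩ := conj_rep _ p hp h7 rfl hp0
  refine ⟨g * c, mul_mem hg c.2, r, ?_⟩
  rw [← hr, ← hpe]
  show _ = g * ((c : ↥G7) * x * (c : ↥G7)⁻¹) * g⁻¹
  group

/-! ## The invariants -/

/-- The number of fixed vectors with a given value of the form. -/
noncomputable def fixCount (c : K) (x : ↥G7) : ℕ :=
  Nat.card {v : V // (x : GL (Fin 7) K).val *ᵥ v = v ∧ Q7 v = c}

theorem fixCount_conj (c : K) (g x : ↥G7) : fixCount c (g * x * g⁻¹) = fixCount c x := by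
  refine (Nat.card_congr ?_).symm
  refine Equiv.subtypeEquiv
    { toFun := fun v => (g : GL (Fin 7) K).val *ᵥ v
      invFun := fun v => ((g⁻¹ : ↥G7) : GL (Fin 7) K).val *ᵥ v
      left_inv := fun v => by simp [Matrix.mulVec_mulVec]
      right_inv := fun v => by simp [Matrix.mulVec_mulVec] } fun v => ?_
  show _ ↔ _ ∧ Q7 ((g : GL (Fin 7) K).val *ᵥ v) = c
  rw [mem_iso.mp g.2]
  refine and_congr_left fun _ => ⟨fun h => ?_, fun h => ?_⟩
  · simp [Matrix.mulVec_mulVec, Matrix.mul_assoc]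
    rw [← Matrix.mulVec_mulVec, h]
  · have := congrArg (((g⁻¹ : ↥G7) : GL (Fin 7) K).val *ᵥ ·) h
    simpa [Matrix.mulVec_mulVec, Matrix.mul_assoc] using this

theorem fixCount_inv (c : K) (x : ↥G7) : fixCount c x⁻¹ = fixCount c x := by
  refine Nat.card_congr (Equiv.subtypeEquivRight fun v => and_congr_left fun _ => ⟨fun h => ?_, fun h => ?_⟩)
  all_goals
    conv_lhs => rw [← h]
    simp [Matrix.mulVec_mulVec]

theorem vec_bijective : Function.Bijective fun n : Fin 2187 => vec n := by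
  refine (Fintype.bijective_iff_surjective_and_card _).mpr ⟨fun v => ?_, by simp⟩
  obtain ⟨n, hn, he⟩ := code_digits v
  exact ⟨⟨n, hn⟩, he⟩

theorem fixCount_rep (c : K) (r : Fin 7) :
    fixCount c (uI (rep r)) =
      ((Finset.univ : Finset (Fin 2187)).filter fun n : Fin 2187 => uMat (rep r) *ᵥ vec n = vec n ∧ Q7 (vec n) = c).card := by
  rw [fixCount, show ((uI (rep r) : ↥G7) : GL (Fin 7) K).val = uMat (rep r) from uGL_val _,
    ← Nat.card_congr (Equiv.subtypeEquiv (Equiv.ofBijective _ vec_bijective) fun n => Iff.rfl),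
    Nat.card_eq_fintype_card, Fintype.card_subtype]
  rfl

theorem Oriented.inv {y : GL (Fin 7) K} (h : Oriented y) : Oriented y⁻¹ := by
  obtain ⟨l, hl⟩ := h
  exact ⟨l, by rw [triv, trivGen_inv]; exact hl⟩

theorem inv_val_of_cube {g : GL (Fin 7) K} {M : Matrix (Fin 7) (Fin 7) K} (hg : g.val = M)
    (h : M * M * M = 1) : (g⁻¹ : GL (Fin 7) K).val = M * M := by
  subst hg
  have e : g * (g * g) = 1 := Units.ext (by rw [Units.val_mul, Units.val_mul, Units.val_one, ← mul_assoc]; exact h)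
  rw [inv_eq_of_mul_eq_one_right e, Units.val_mul]

theorem skew_split (s : Bool) : skewPart K (uGL (splitCode s)) = toM (skewLst s) := by
  rw [skewPart, inv_val_of_cube (uGL_val _) (split_facts s).1, uGL_val, (split_facts s).2]

theorem frameForm_coord (l : ℕ) (a b c : Fin 7) :
    frameForm (fr l) ![Pi.single a 1, Pi.single b 1, Pi.single c 1] = ffVal l a b c := by
  have hB : ∀ (v : V) (x : Fin 7),
      B7 v (Pi.single x 1) = (if (x : ℕ) = 3 then (2 : K) else 1) * v ⟨6 - (x : ℕ), by omega⟩ := fun v x => by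
    fin_cases x <;> simp [B7_apply]
  simp [frameForm_apply, Matrix.det_fin_three, ffVal, hB, fr, unpack]

theorem triv_coord (s : Bool) (a b c : Fin 7) :
    triv (uGL (splitCode s)) ![Pi.single a 1, Pi.single b 1, Pi.single c 1] = trivVal (toM (skewLst s)) a b c := by
  rw [triv, trivGen_apply, skew_split]
  rfl

theorem triv_split (u : Fin 3 → Fin 7) (hu : Function.Injective u) :
    triv (uGL 13365) (fun a => Pi.single (u a) 1) = frameForm (fr 0) (fun a => Pi.single (u a) 1) ∧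
    triv (uGL 6804) (fun a => Pi.single (u a) 1) = -frameForm (fr 0) (fun a => Pi.single (u a) 1) := by
  have e : (fun a => (Pi.single (u a) 1 : V)) = ![Pi.single (u 0) 1, Pi.single (u 1) 1, Pi.single (u 2) 1] := by
    funext a; fin_cases a <;> rfl
  rcases triv_values (u 0) (u 1) (u 2) with h | h | h | ⟨h1, h2⟩
  · exact absurd (hu h) (by decide)
  · exact absurd (hu h) (by decide)
  · exact absurd (hu h) (by decide)
  · rw [e, frameForm_coord]
    exact ⟨(triv_coord true _ _ _).trans h1, (triv_coord false _ _ _).trans h2⟩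

theorem oriented_rep : Oriented (uI (rep 3) : GL (Fin 7) K) :=
  ⟨0, Module.Basis.ext_alternating (Pi.basisFun K (Fin 7)) fun u hu => by
    simp only [Pi.basisFun_apply]
    exact (triv_split u hu).1⟩

theorem not_oriented_rep : ¬ Oriented (uI (rep 2) : GL (Fin 7) K) := by
  rintro ⟨l, hl⟩
  have e : triv (uI (rep 2) : GL (Fin 7) K) = -frameForm (fr 0) :=
    Module.Basis.ext_alternating (Pi.basisFun K (Fin 7)) fun u hu => by
      simp only [Pi.basisFun_apply]
      exact (triv_split u hu).2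
  refine frame_values l ?_
  rw [← frameForm_coord, ← frameForm_coord, ← hl, e]
  rfl

/-- Conjugate representatives are equal, also up to inversion. -/
theorem rep_unique {g : ↥G7} (hg : g ∈ O7') {r r' : Fin 7}
    (h : g * uI (rep r) * g⁻¹ = uI (rep r') ∨ g * uI (rep r) * g⁻¹ = (uI (rep r'))⁻¹) : r = r' := by
  have hc : ∀ c, fixCount c (uI (rep r)) = fixCount c (uI (rep r')) := fun c => by
    rcases h with h | h
    · rw [← fixCount_conj c g, h]
    · rw [← fixCount_conj c g, h, fixCount_inv]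
  have h0 := hc 0
  have h1 := hc 1
  rw [fixCount_rep, fixCount_rep, (fix_values r).1, (fix_values r').1] at h0
  rw [fixCount_rep, fixCount_rep, (fix_values r).2, (fix_values r').2] at h1
  have key : ∀ a b : Fin 7, (![81, 99, 27, 27, 9, 63, 9] : Fin 7 → ℕ) a = ![81, 99, 27, 27, 9, 63, 9] b →
      (![108, 72, 0, 0, 18, 90, 0] : Fin 7 → ℕ) a = ![108, 72, 0, 0, 18, 90, 0] b →
      a = b ∨ (a = 2 ∧ b = 3) ∨ (a = 3 ∧ b = 2) := by decide
  rcases key r r' h0 h1 with e | ⟨rfl, rfl⟩ | ⟨rfl, rfl⟩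
  · exact e
  · have e := Oriented.conj oriented_rep (inv_mem hg)
    rcases h with h | h
    · refine absurd e (fun e => not_oriented_rep ?_)
      rw [← h] at e
      simpa [mul_assoc] using e
    · refine absurd (Oriented.conj oriented_rep.inv (inv_mem hg)) (fun e => not_oriented_rep ?_)
      have h' : ((uI (rep 3) : ↥G7) : GL (Fin 7) K)⁻¹ = ((g * uI (rep 2) * g⁻¹ : ↥G7) : GL (Fin 7) K) := by
        rw [h]; rfl
      rw [h'] at e
      simpa [mul_assoc] using e
  · have e := Oriented.conj oriented_rep hg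
    rcases h with h | h
    · refine absurd e (fun e => not_oriented_rep ?_)
      rw [← h]; exact e
    · refine absurd e (fun e => not_oriented_rep ?_)
      have h' : ((g * uI (rep 3) * g⁻¹ : ↥G7) : GL (Fin 7) K) = ((uI (rep 2) : ↥G7) : GL (Fin 7) K)⁻¹ := by
        rw [h]; rfl
      have e' := e.inv
      rw [show (g : GL (Fin 7) K) * (uI (rep 3) : GL (Fin 7) K) * (g : GL (Fin 7) K)⁻¹ =
        ((g * uI (rep 3) * g⁻¹ : ↥G7) : GL (Fin 7) K) from rfl, h', inv_inv] at e'
      exact e'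

end Cfsg.Lib.OmegaSeven
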