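import Cfsg.Agent.Lib.OmegaSeven.PackDef
import Cfsg.Agent.Lib.OmegaSeven.FrameData

/-!
# The certificate of the action on the frames
-/

set_option autoImplicit false
set_option maxRecDepth 100000

namespace Cfsg.Lib.OmegaSeven

/-- The `i`th vector of the `l`th frame, packed. -/
def frP (l i : Nat) : Nat := look frameA 96 (3 * l + i)

/-- A packed vector moved by the `k`th acting matrix. -/
def actP (k p : Nat) : Nat := lin7 (fun j => lane p j % 3) ((actCol.getD k []).getD · 0)

/-- One vector of one moved frame. -/
def chkVec (l k i e : Nat) : Bool :=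
  red3 (actP k (frP l i)) == red3 (e / 3 ^ (3 * i) % 3 * red3 (frP (e / 19683) 0) +
    e / 3 ^ (3 * i + 1) % 3 * red3 (frP (e / 19683) 1) + e / 3 ^ (3 * i + 2) % 3 * red3 (frP (e / 19683) 2))

/-- The determinant of a coded coefficient matrix. -/
def detCode (e : Nat) : Nat :=
  ((e / 1 % 3) * (e / 81 % 3) * (e / 6561 % 3) + (e / 3 % 3) * (e / 243 % 3) * (e / 729 % 3) +
    (e / 9 % 3) * (e / 27 % 3) * (e / 2187 % 3) +
    2 * ((e / 9 % 3) * (e / 81 % 3) * (e / 729 % 3) + (e / 1 % 3) * (e / 243 % 3) * (e / 2187 % 3) +
      (e / 3 % 3) * (e / 27 % 3) * (e / 6561 % 3))) % 3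

/-- One moved frame. -/
def chkMove (l k : Nat) : Bool :=
  decide (look moveA 128 (8 * l + k) / 19683 < 1120) &&
    chkVec l k 0 (look moveA 128 (8 * l + k)) && chkVec l k 1 (look moveA 128 (8 * l + k)) &&
    chkVec l k 2 (look moveA 128 (8 * l + k)) &&
    (detCode (look moveA 128 (8 * l + k)) == if k = 7 then 2 else 1)

/-- A block of eighty frames. -/
def chkBlock (b : Nat) : Bool := (List.range 80).all fun i => (List.range 8).all (chkMove (80 * b + i))

theorem block_0 : chkBlock 0 = true := by decide +kernel

theorem block_1 : chkBlock 1 = true := by decide +kernel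

theorem block_2 : chkBlock 2 = true := by decide +kernel

theorem block_3 : chkBlock 3 = true := by decide +kernel

theorem block_4 : chkBlock 4 = true := by decide +kernel

theorem block_5 : chkBlock 5 = true := by decide +kernel

theorem block_6 : chkBlock 6 = true := by decide +kernel

theorem block_7 : chkBlock 7 = true := by decide +kernel

theorem block_8 : chkBlock 8 = true := by decide +kernel

theorem block_9 : chkBlock 9 = true := by decide +kernel

theorem block_10 : chkBlock 10 = true := by decide +kernel

theorem block_11 : chkBlock 11 = true := by decide +kernel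

theorem block_12 : chkBlock 12 = true := by decide +kernel

theorem block_13 : chkBlock 13 = true := by decide +kernel

end Cfsg.Lib.OmegaSeven
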