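/-!
# Vectors packed into natural numbers: the computable part
-/

set_option autoImplicit false

namespace Cfsg.Lib.OmegaSeven

/-- A packed vector. -/
def pack (f : Fin 7 → Nat) : Nat :=
  f 0 + 64 * (f 1 + 64 * (f 2 + 64 * (f 3 + 64 * (f 4 + 64 * (f 5 + 64 * f 6)))))

/-- A coordinate of a packed vector. -/
def lane (p : Nat) (i : Nat) : Nat := p / 64 ^ i % 64

/-- Reduction of all coordinates modulo three. -/
def red3 (p : Nat) : Nat := pack fun i => lane p i.val % 3

/-- A packed linear combination of seven packed vectors. -/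
def lin7 (c : Nat → Nat) (P : Nat → Nat) : Nat :=
  c 0 * P 0 + c 1 * P 1 + c 2 * P 2 + c 3 * P 3 + c 4 * P 4 + c 5 * P 5 + c 6 * P 6

/-- A table lookup in chunks. -/
def look (t : List (List Nat)) (s n : Nat) : Nat := (t.getD (n / s) []).getD (n % s) 0

end Cfsg.Lib.OmegaSeven
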