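import Cfsg.Agent.Lib.OmegaSeven.Basic
import Cfsg.Agent.Lib.OmegaSeven.PackDef

/-!
# Vectors packed into natural numbers, six bits for each coordinate
-/

set_option autoImplicit false

namespace Cfsg.Lib.OmegaSeven

open scoped Matrix

/-- The coordinates modulo three. -/
def unpack (p : ℕ) : V := fun i => ((lane p i : ℕ) : K)

/-- A vector as a packed number with coordinates below three. -/
def packV (v : V) : ℕ := pack fun i => (v i).val

theorem lane_step {a X : ℕ} (ha : a < 64) (n : ℕ) : lane (a + 64 * X) (n + 1) = lane X n := by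
  rw [lane, lane, pow_succ', ← Nat.div_div_eq_div_mul, Nat.add_mul_div_left _ _ (by norm_num),
    Nat.div_eq_of_lt ha, zero_add]

theorem lane_zero {a X : ℕ} (ha : a < 64) : lane (a + 64 * X) 0 = a := by
  simp only [lane, pow_zero, Nat.div_one]; omega

theorem lane_top {a : ℕ} (ha : a < 64) : lane a 0 = a := by
  simp only [lane, pow_zero, Nat.div_one]; omega

theorem lane_pack {f : Fin 7 → ℕ} (h : ∀ i, f i < 64) (i : Fin 7) : lane (pack f) i = f i := by
  fin_cases i
  · exact lane_zero (h 0)
  · exact (lane_step (h 0) 0).trans (lane_zero (h 1))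
  · exact ((lane_step (h 0) 1).trans (lane_step (h 1) 0)).trans (lane_zero (h 2))
  · exact (((lane_step (h 0) 2).trans (lane_step (h 1) 1)).trans (lane_step (h 2) 0)).trans (lane_zero (h 3))
  · exact ((((lane_step (h 0) 3).trans (lane_step (h 1) 2)).trans (lane_step (h 2) 1)).trans
      (lane_step (h 3) 0)).trans (lane_zero (h 4))
  · exact (((((lane_step (h 0) 4).trans (lane_step (h 1) 3)).trans (lane_step (h 2) 2)).trans
      (lane_step (h 3) 1)).trans (lane_step (h 4) 0)).trans (lane_zero (h 5))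
  · exact ((((((lane_step (h 0) 5).trans (lane_step (h 1) 4)).trans (lane_step (h 2) 3)).trans
      (lane_step (h 3) 2)).trans (lane_step (h 4) 1)).trans (lane_step (h 5) 0)).trans (lane_top (h 6))

theorem unpack_pack {f : Fin 7 → ℕ} (h : ∀ i, f i < 64) : unpack (pack f) = fun i => (f i : K) := by
  funext i; simp only [unpack, lane_pack h i]

theorem unpack_packV (v : V) : unpack (packV v) = v := by
  rw [packV, unpack_pack fun i => lt_trans (ZMod.val_lt _) (by norm_num)]
  funext i
  exact ZMod.natCast_rightInverse (v i)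

theorem red3_lt (p : ℕ) (i : Fin 7) : lane p i % 3 < 64 := lt_trans (Nat.mod_lt _ (by norm_num)) (by norm_num)

theorem unpack_red3 (p : ℕ) : unpack (red3 p) = unpack p := by
  rw [red3, unpack_pack (red3_lt p)]
  funext i
  simp [unpack]

theorem unpack_of_red3_eq {p q : ℕ} (h : red3 p = red3 q) : unpack p = unpack q := by
  rw [← unpack_red3 p, h, unpack_red3]

theorem lin7_pack {c : ℕ → ℕ} (hc : ∀ j, c j < 3) {f : ℕ → Fin 7 → ℕ} (hf : ∀ j i, f j i < 3)
    {P : ℕ → ℕ} (hP : ∀ j, j < 7 → P j = pack (f j)) :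
    unpack (lin7 c P) = fun i => ∑ j : Fin 7, (c j : K) * (f j i : K) := by
  have e : lin7 c P = pack fun i => c 0 * f 0 i + c 1 * f 1 i + c 2 * f 2 i + c 3 * f 3 i + c 4 * f 4 i +
      c 5 * f 5 i + c 6 * f 6 i := by
    simp only [lin7, hP 0 (by norm_num), hP 1 (by norm_num), hP 2 (by norm_num), hP 3 (by norm_num),
      hP 4 (by norm_num), hP 5 (by norm_num), hP 6 (by norm_num), pack]
    ring
  rw [e, unpack_pack]
  · funext i
    simp [Fin.sum_univ_seven]
  · intro i
    have hb : ∀ j, c j * f j i ≤ 4 := fun j =>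
      Nat.mul_le_mul (Nat.le_of_lt_succ (hc j)) (Nat.le_of_lt_succ (hf j i))
    have h0 := hb 0; have h1 := hb 1; have h2 := hb 2; have h3 := hb 3
    have h4 := hb 4; have h5 := hb 5; have h6 := hb 6
    omega

theorem lane3_lt (p j : ℕ) : lane p j % 3 < 3 := Nat.mod_lt _ (by norm_num)

theorem lane3_cast (p : ℕ) (i : Fin 7) : ((lane p i % 3 : ℕ) : K) = unpack p i := by
  simp [unpack]

/-- A matrix of natural numbers times a packed vector, the columns being packed. -/
theorem lin7_mulVec {A : Matrix (Fin 7) (Fin 7) K} {P : ℕ → ℕ}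
    (hP : ∀ j : Fin 7, P j = packV (fun i => A i j)) (p : ℕ) :
    unpack (lin7 (fun j => lane p j % 3) P) = A *ᵥ unpack p := by
  rw [lin7_pack (fun j => lane3_lt p j) (f := fun j i => if h : j < 7 then (A i ⟨j, h⟩).val else 0)
    (fun j i => by split_ifs <;> [exact ZMod.val_lt _; norm_num])
    (fun j hj => by rw [show P j = P (⟨j, hj⟩ : Fin 7) from rfl, hP]; simp [packV, hj])]
  funext i
  simp only [Matrix.mulVec, dotProduct]
  refine Finset.sum_congr rfl fun j _ => ?_
  rw [lane3_cast, dif_pos j.2, ZMod.natCast_rightInverse, mul_comm]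

end Cfsg.Lib.OmegaSeven
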