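import Cfsg.Agent.Lib.OmegaSeven.Gens
import Cfsg.Agent.Lib.OmegaSeven.Pack
import Cfsg.Agent.Lib.OmegaSeven.FrameCheck

/-!
# An orientation of the maximal isotropic subspaces preserved by Ω₇(3)
-/

set_option autoImplicit false
set_option maxRecDepth 100000
set_option maxHeartbeats 1000000

namespace Cfsg.Lib.OmegaSeven

open Cfsg Cfsg.Lib.Linear.Orth
open scoped Matrix

/-- The frame. -/
def fr (l : ℕ) (i : Fin 3) : V := unpack (frP l i)

/-- The six root elements and two reflections acting on frames. -/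
def actLst (k : ℕ) : List (List ℕ) :=
  if k < 3 then gLst k else if k < 6 then gLst (k + 6) else
  if k = 6 then [[1, 0, 0, 0, 0, 0, 0], [0, 1, 0, 0, 0, 0, 0], [0, 0, 1, 0, 0, 0, 0], [0, 0, 0, 2, 0, 0, 0],
    [0, 0, 0, 0, 1, 0, 0], [0, 0, 0, 0, 0, 1, 0], [0, 0, 0, 0, 0, 0, 1]]
  else [[0, 0, 0, 0, 0, 0, 1], [0, 1, 0, 0, 0, 0, 0], [0, 0, 1, 0, 0, 0, 0], [0, 0, 0, 1, 0, 0, 0],
    [0, 0, 0, 0, 1, 0, 0], [0, 0, 0, 0, 0, 1, 0], [1, 0, 0, 0, 0, 0, 0]]

theorem actCol_eq : ∀ k : Fin 8, ∀ j : Fin 7, ((actCol.getD k []).getD j 0) = packV (fun i => toM (actLst k) i j) := by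
  decide +kernel

theorem unpack_actP (k : Fin 8) (p : ℕ) : unpack (actP k p) = toM (actLst k) *ᵥ unpack p :=
  lin7_mulVec (actCol_eq k) p

theorem block_ok (b : Fin 14) : chkBlock b = true := by
  fin_cases b
  exacts [block_0, block_1, block_2, block_3, block_4, block_5, block_6, block_7, block_8, block_9, block_10,
    block_11, block_12, block_13]

theorem moves_ok (l : Fin 1120) (k : Fin 8) : chkMove l k = true := by
  have h := block_ok ⟨l / 80, by omega⟩
  simp only [chkBlock, List.all_eq_true, List.mem_range] at h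
  have := h (l % 80) (Nat.mod_lt _ (by norm_num)) k k.2
  rwa [show 80 * ((l : ℕ) / 80) + (l : ℕ) % 80 = l from Nat.div_add_mod _ _] at this

/-- The action sends the oriented frames to frames of orientation `σ`. -/
def Moves (g : ↥G7) (σ : K) : Prop :=
  ∀ l : Fin 1120, ∃ l' : Fin 1120,
    frameForm (fun i => (g : GL (Fin 7) K).val *ᵥ fr l i) = σ • frameForm (fr l')

theorem frameForm_push (g : ↥G7) (l : Fin 3 → V) :
    frameForm (fun i => (g : GL (Fin 7) K).val *ᵥ l i) =
      (frameForm l).compLinearMap (Matrix.mulVecLin ((g⁻¹ : ↥G7) : GL (Fin 7) K).val) := by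
  refine AlternatingMap.ext fun u => ?_
  rw [AlternatingMap.compLinearMap_apply]
  have h := frameForm_act g.2 l (fun a => ((g⁻¹ : ↥G7) : GL (Fin 7) K).val *ᵥ u a)
  have hu : (fun a => (g : GL (Fin 7) K).val *ᵥ (((g⁻¹ : ↥G7) : GL (Fin 7) K).val *ᵥ u a)) = u := by
    funext a
    rw [Matrix.mulVec_mulVec, Subgroup.coe_inv]
    simp
  rw [hu] at h
  exact h

theorem Moves.one : Moves 1 1 := fun l => ⟨l, by simp⟩

theorem Moves.mul {g h : ↥G7} {σ τ : K} (hg : Moves g σ) (hh : Moves h τ) : Moves (g * h) (σ * τ) := by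
  intro l
  obtain ⟨l₁, h₁⟩ := hh l
  obtain ⟨l₂, h₂⟩ := hg l₁
  refine ⟨l₂, ?_⟩
  have e : (fun i => ((g * h : ↥G7) : GL (Fin 7) K).val *ᵥ fr l i) =
      fun i => (g : GL (Fin 7) K).val *ᵥ ((h : GL (Fin 7) K).val *ᵥ fr l i) := by
    funext i; simp [Matrix.mulVec_mulVec]
  rw [e, frameForm_push g, h₁]
  refine Eq.trans (b := τ • ((frameForm (fr l₁)).compLinearMap
    (Matrix.mulVecLin ((g⁻¹ : ↥G7) : GL (Fin 7) K).val))) (AlternatingMap.ext fun u => rfl) ?_
  rw [← frameForm_push, h₂, smul_smul, mul_comm]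

/-- An element and its inverse move the frames with the same sign. -/
def Moves2 (g : ↥G7) (σ : K) : Prop := Moves g σ ∧ Moves g⁻¹ σ

theorem Moves2.mul {g h : ↥G7} {σ τ : K} (hg : Moves2 g σ) (hh : Moves2 h τ) : Moves2 (g * h) (σ * τ) :=
  ⟨hg.1.mul hh.1, by rw [mul_inv_rev, mul_comm σ]; exact hh.2.mul hg.2⟩

theorem Moves2.inv {g : ↥G7} {σ : K} (hg : Moves2 g σ) : Moves2 g⁻¹ σ :=
  ⟨hg.2, by rw [inv_inv]; exact hg.1⟩

theorem moves_of_table (g : ↥G7) (k : Fin 8) (hg : (g : GL (Fin 7) K).val = toM (actLst k)) :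
    Moves g (if (k : ℕ) = 7 then 2 else 1) := by
  intro l
  have h := moves_ok l k
  simp only [chkMove, Bool.and_eq_true, decide_eq_true_eq, beq_iff_eq] at h
  obtain ⟨⟨⟨⟨ht, h0⟩, h1⟩, h2⟩, hdet⟩ := h
  set e := look moveA 128 (8 * l + k) with he
  refine ⟨⟨e / 19683, ht⟩, ?_⟩
  let C : Matrix (Fin 3) (Fin 3) K := fun i j => ((e / 3 ^ (3 * (i : ℕ) + j) % 3 : ℕ) : K)
  have himg : ∀ i : Fin 3, chkVec l k i e = true := fun i => by fin_cases i <;> assumption
  have hlane : ∀ (c₀ c₁ c₂ p₀ p₁ p₂ : ℕ), c₀ < 3 → c₁ < 3 → c₂ < 3 →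
      unpack (c₀ * red3 p₀ + c₁ * red3 p₁ + c₂ * red3 p₂) =
        (c₀ : K) • unpack p₀ + (c₁ : K) • unpack p₁ + (c₂ : K) • unpack p₂ := by
    intro c₀ c₁ c₂ p₀ p₁ p₂ hc₀ hc₁ hc₂
    have e : c₀ * red3 p₀ + c₁ * red3 p₁ + c₂ * red3 p₂ =
        pack fun i => c₀ * (lane p₀ i % 3) + c₁ * (lane p₁ i % 3) + c₂ * (lane p₂ i % 3) := by
      simp only [red3, pack]; ring
    rw [e, unpack_pack]
    · funext i
      simp [unpack]
    · intro i
      have := Nat.mul_le_mul (Nat.le_of_lt_succ hc₀) (Nat.le_of_lt_succ (lane3_lt p₀ i))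
      have := Nat.mul_le_mul (Nat.le_of_lt_succ hc₁) (Nat.le_of_lt_succ (lane3_lt p₁ i))
      have := Nat.mul_le_mul (Nat.le_of_lt_succ hc₂) (Nat.le_of_lt_succ (lane3_lt p₂ i))
      omega
  have hi : (fun i => (g : GL (Fin 7) K).val *ᵥ fr l i) = fun i => ∑ j, C i j • fr (e / 19683) j := by
    funext i
    have h3 := himg i
    simp only [chkVec, beq_iff_eq] at h3
    rw [hg, fr, ← unpack_actP, unpack_of_red3_eq h3,
      hlane _ _ _ _ _ _ (Nat.mod_lt _ (by norm_num)) (Nat.mod_lt _ (by norm_num)) (Nat.mod_lt _ (by norm_num))]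
    simp [C, fr, Fin.sum_univ_three]
  have hd : C.det = (if (k : ℕ) = 7 then 2 else 1) := by
    have h' := congrArg (fun n : ℕ => (n : K)) hdet
    simp only [detCode] at h'
    rw [ZMod.natCast_mod] at h'
    push_cast at h'
    rw [Matrix.det_fin_three]
    simp only [C]
    norm_num [ZMod.natCast_mod] at h' ⊢
    have h3 : (3 : K) = 0 := by decide
    linear_combination h' - (((e / 9 : ℕ) : K) * (e / 81 : ℕ) * (e / 729 : ℕ) + (e : K) * (e / 243 : ℕ) * (e / 2187 : ℕ) +
      (e / 3 : ℕ) * (e / 27 : ℕ) * (e / 6561 : ℕ)) * h3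
  rw [hi, frameForm_comb, hd]

theorem moves_root {i : ℕ} (hi : i < 12) (h : i < 3 ∨ 9 ≤ i) : Moves2 (gI i hi) 1 := by
  have hm : Moves (gI i hi) 1 := by
    rcases h with h | h
    · have := moves_of_table (gI i hi) ⟨i, by omega⟩ (by
        show (gGL i).val = _
        rw [gGL_val hi, actLst, if_pos h])
      rwa [if_neg (by show i ≠ 7; omega)] at this
    · have := moves_of_table (gI i hi) ⟨i - 6, by omega⟩ (by
        show (gGL i).val = _
        rw [gGL_val hi, actLst, if_neg (by show ¬ i - 6 < 3; omega), if_pos (by show i - 6 < 6; omega),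
          show i - 6 + 6 = i by omega])
      rwa [if_neg (by show i - 6 ≠ 7; omega)] at this
  have hinv : (gI i hi)⁻¹ = gI i hi * gI i hi := by
    refine inv_eq_of_mul_eq_one_right (Subtype.ext (Units.ext ?_))
    show ((gGL i * (gGL i * gGL i)) : GL (Fin 7) K).val = 1
    rw [← mul_assoc, Units.val_mul, Units.val_mul, gGL_val hi, ← toM_mulN, ← toM_mulN]
    exact pos_cube ⟨i, hi⟩ h
  exact ⟨hm, by rw [hinv, ← mul_one (1 : K)]; exact hm.mul hm⟩

/-- A vector code as a packed vector. -/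
def vP (n : ℕ) : ℕ := pack fun i => n / 3 ^ (i : ℕ) % 3

/-- The vector with a given code. -/
def vec (n : ℕ) : V := fun i => ((n / 3 ^ (i : ℕ) % 3 : ℕ) : K)

theorem unpack_vP (n : ℕ) : unpack (vP n) = vec n :=
  unpack_pack fun _ => lt_trans (Nat.mod_lt _ (by norm_num)) (by norm_num)

/-- The certificate of the orbit of one anisotropic vector. -/
def chkRefl (n : ℕ) : Bool :=
  if look reflA 81 n = 0 then (n / 27 % 3 * (n / 27 % 3) + n % 3 * (n / 729 % 3) + n / 3 % 3 * (n / 243 % 3) +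
      n / 9 % 3 * (n / 81 % 3)) % 3 == 0
  else if (look reflA 81 n - 1) / 16 % 10 = 9 then n == 27 || n == 1459
  else decide ((look reflA 81 n - 1) / 16 % 10 < 6) && decide ((look reflA 81 n - 1) / 160 < 2187) &&
    (look reflA 81 ((look reflA 81 n - 1) / 160) != 0) &&
    decide ((look reflA 81 ((look reflA 81 n - 1) / 160) - 1) % 16 < (look reflA 81 n - 1) % 16) &&
    red3 (actP ((look reflA 81 n - 1) / 16 % 10) (vP ((look reflA 81 n - 1) / 160))) == red3 (vP n)

theorem refl_ok : (List.range 2187).all chkRefl = true := by decide +kernel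

theorem refl_roots : ∀ k : Fin 2,
    (1 : Matrix (Fin 7) (Fin 7) K) - Matrix.vecMulVec (vec (if (k : ℕ) = 0 then 27 else 1459))
      ((if (k : ℕ) = 0 then (1 : K) else 2) • (Matrix.vecMul (vec (if (k : ℕ) = 0 then 27 else 1459)) gram)) =
      toM (actLst (k + 6)) ∧
    Q7 (vec (if (k : ℕ) = 0 then 27 else 1459)) = (if (k : ℕ) = 0 then (1 : K) else 2) := by
  decide +kernel

theorem moves_refl_root (k : Fin 2) (h : Q7 (vec (if (k : ℕ) = 0 then 27 else 1459)) ≠ 0) :
    Moves2 (rI space7 _ h) (if (k : ℕ) = 0 then 1 else 2) := by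
  have hm : Moves (rI space7 _ h) (if (k : ℕ) = 0 then 1 else 2) := by
    have := moves_of_table (rI space7 _ h) ⟨k + 6, by omega⟩ (by
      rw [rI_val]
      refine Matrix.ext fun x y => ?_
      rw [← (refl_roots k).1]
      have := congrFun (rGL_act space7 h (Pi.single y 1)) x
      rw [Matrix.mulVec_single_one] at this
      refine this.trans ?_
      have hinv : ∀ c : K, c ≠ 0 → c⁻¹ = c := fun c hc => by
        rcases (by decide : ∀ c : K, c = 0 ∨ c = 1 ∨ c = 2) c with rfl | rfl | rfl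
        · exact absurd rfl hc
        · exact inv_one
        · exact inv_eq_of_mul_eq_one_right (by decide)
      rw [B7_eq, Matrix.dotProduct_mulVec, dotProduct_single, mul_one, hinv _ h, (refl_roots k).2]
      fin_cases k <;> simp [Matrix.one_apply, Pi.single_apply, Matrix.vecMulVec_apply, mul_comm, mul_left_comm] <;> ring)
    fin_cases k <;> simpa using this
  refine ⟨hm, ?_⟩
  rwa [inv_eq_of_mul_eq_one_right (rI_sq space7 h)]

theorem code_digits (v : V) : ∃ n < 2187, vec n = v := by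
  have h : ∀ w : Fin 7 → Fin 3, vec (finFunctionFinEquiv w : ℕ) = fun i => ((w i : ℕ) : K) := fun w => by
    funext i
    simp only [vec]
    congr 1
    conv_rhs => rw [← finFunctionFinEquiv.symm_apply_apply w]
    rw [finFunctionFinEquiv_symm_apply_val]
  refine ⟨(finFunctionFinEquiv (fun i => (⟨(v i).val, ZMod.val_lt _⟩ : Fin 3)) : ℕ),
    (finFunctionFinEquiv _).2, ?_⟩
  rw [h]
  funext i
  exact ZMod.natCast_rightInverse (v i)

theorem q_digits (n : ℕ) (h : chkRefl n = true) (he : look reflA 81 n = 0) : Q7 (vec n) = 0 := by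
  simp only [chkRefl, he, if_true, beq_iff_eq] at h
  have h' := congrArg (fun n : ℕ => (n : K)) h
  rw [ZMod.natCast_mod] at h'
  push_cast at h'
  rw [← h', Q7, pow_two]
  simp [vec]

theorem moves_refl_code : ∀ d n, n < 2187 → look reflA 81 n ≠ 0 → (look reflA 81 n - 1) % 16 = d →
    ∀ h : Q7 (vec n) ≠ 0, ∃ σ, Moves2 (rI space7 _ h) σ := by
  intro d
  induction d using Nat.strong_induction_on with
  | _ d ih =>
    intro n hn he hd h
    have hc := List.all_eq_true.mp refl_ok n (List.mem_range.mpr hn)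
    simp only [chkRefl, if_neg he] at hc
    by_cases hk : (look reflA 81 n - 1) / 16 % 10 = 9
    · rw [if_pos hk, Bool.or_eq_true, beq_iff_eq, beq_iff_eq] at hc
      rcases hc with rfl | rfl
      · exact ⟨_, moves_refl_root 0 h⟩
      · exact ⟨_, moves_refl_root 1 h⟩
    · rw [if_neg hk] at hc
      simp only [Bool.and_eq_true, decide_eq_true_eq, bne_iff_ne, beq_iff_eq] at hc
      obtain ⟨⟨⟨⟨hk6, hp⟩, hp0⟩, hlt⟩, himg⟩ := hc
      set k := (look reflA 81 n - 1) / 16 % 10 with hkdef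
      set p := (look reflA 81 n - 1) / 160 with hpdef
      obtain ⟨i, hi, hir, hik⟩ : ∃ i, i < 12 ∧ (i < 3 ∨ 9 ≤ i) ∧ actLst k = gLst i := by
        by_cases h3 : k < 3
        · exact ⟨k, by omega, Or.inl h3, by rw [actLst, if_pos h3]⟩
        · exact ⟨k + 6, by omega, Or.inr (by omega), by rw [actLst, if_neg h3, if_pos hk6]⟩
      have e : (gI i hi : GL (Fin 7) K).val *ᵥ vec p = vec n := by
        show (gGL i).val *ᵥ _ = _
        rw [gGL_val hi, ← hik, ← unpack_vP, ← unpack_vP, ← unpack_actP ⟨k, by omega⟩]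
        exact unpack_of_red3_eq himg
      have hp' : Q7 (vec p) ≠ 0 := by
        rw [← mem_iso.mp (gI i hi).2, e]; exact h
      obtain ⟨σ, hσ⟩ := ih _ (hd ▸ hlt) p hp hp0 rfl hp'
      refine ⟨σ, ?_⟩
      have hg := moves_root hi hir
      have : rI space7 _ h = gI i hi * rI space7 _ hp' * (gI i hi)⁻¹ := Subtype.ext (by
        show rGL Q7 _ = (gI i hi : GL (Fin 7) K) * rGL Q7 _ * (gI i hi : GL (Fin 7) K)⁻¹
        rw [rGL_conj space7 hp' (gI i hi).2, e])
      rw [this]
      simpa using (hg.mul hσ).mul hg.inv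

theorem moves_exists (g : ↥G7) : ∃ σ, Moves2 g σ := by
  refine refl_induction space7 (Or.inl (by simp)) (fun g => ∃ σ, Moves2 g σ)
    ⟨1, Moves.one, by rw [inv_one]; exact Moves.one⟩ (fun v hv g ⟨σ, hg⟩ => ?_) g
  obtain ⟨n, hn, rfl⟩ := code_digits v
  obtain ⟨τ, hτ⟩ := moves_refl_code _ n hn
    (fun he => hv (q_digits n (List.all_eq_true.mp refl_ok n (List.mem_range.mpr hn)) he)) rfl hv
  exact ⟨τ * σ, hτ.mul hg⟩

theorem frameForm_fr_ne : frameForm (fr 0) ≠ 0 := by
  intro h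
  have h' := congrArg (fun F : V [⋀^Fin 3]→ₗ[K] K => F ![vec 729, vec 243, vec 81]) h
  simp only [frameForm_apply, AlternatingMap.zero_apply, Matrix.det_fin_three, Matrix.of_apply, B7_apply] at h'
  revert h'
  decide +kernel

theorem moves_ne_zero {g : ↥G7} {σ : K} (h : Moves g σ) : σ ≠ 0 := by
  rintro rfl
  obtain ⟨l', hl⟩ := h 0
  rw [zero_smul, frameForm_push] at hl
  refine frameForm_fr_ne (AlternatingMap.ext fun u => ?_)
  have := congrArg (fun F => F (fun i => (g : GL (Fin 7) K).val *ᵥ u i)) hl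
  simpa [Matrix.mulVec_mulVec] using this

theorem moves_omega {g : ↥G7} (hg : g ∈ O7') : Moves2 g 1 := by
  rw [O7', commutator_eq_closure] at hg
  induction hg using Subgroup.closure_induction with
  | mem x hx =>
    obtain ⟨a, b, rfl⟩ := hx
    obtain ⟨σ, ha⟩ := moves_exists a
    obtain ⟨τ, hb⟩ := moves_exists b
    rw [commutatorElement_def]
    have h := ((ha.mul hb).mul ha.inv).mul hb.inv
    have : σ * τ * σ * τ = (σ * τ) * (σ * τ) := by ring
    rw [this] at h
    by_cases h0 : σ * τ = 0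
    · exact absurd (moves_ne_zero (ha.mul hb).1) (not_not.mpr h0)
    · rwa [(by decide : ∀ y : K, y ≠ 0 → y * y = 1) _ h0] at h
  | one => exact ⟨Moves.one, by rw [inv_one]; exact Moves.one⟩
  | mul x y _ _ hx hy => simpa using hx.mul hy
  | inv x _ hx => exact hx.inv

/-- The oriented elements. -/
def Oriented (y : GL (Fin 7) K) : Prop := ∃ l : Fin 1120, triv y = frameForm (fr l)

theorem Oriented.conj {y : GL (Fin 7) K} (hy : Oriented y) {g : ↥G7} (hg : g ∈ O7') :
    Oriented ((g : GL (Fin 7) K) * y * (g : GL (Fin 7) K)⁻¹) := by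
  obtain ⟨l, hl⟩ := hy
  obtain ⟨l', hl'⟩ := (moves_omega hg).1 l
  rw [one_smul] at hl'
  refine ⟨l', AlternatingMap.ext fun u => ?_⟩
  have hu : u = fun i => (g : GL (Fin 7) K).val *ᵥ (((g⁻¹ : ↥G7) : GL (Fin 7) K).val *ᵥ u i) := by
    funext i; rw [Subgroup.coe_inv, Matrix.mulVec_mulVec]; simp
  conv_lhs => rw [hu]
  rw [triv_conj hg, hl, ← hl']
  conv_rhs => rw [hu]
  rw [frameForm_act g.2]

end Cfsg.Lib.OmegaSeven
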