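/-! Root elements and their products, generated by a search. -/

set_option autoImplicit false
set_option maxRecDepth 100000

namespace Cfsg.Lib.OmegaSeven

/-- The packed rows of the generators. -/
def genRow : List (List Nat) :=
  [[65, 64, 4096, 262144, 16777216, 138512695296, 68719476736],
  [1, 4160, 4096, 262144, 2164260864, 1073741824, 68719476736],
  [1, 64, 33820672, 17039360, 16777216, 1073741824, 68719476736],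
  [128, 1, 4096, 262144, 16777216, 68719476736, 2147483648],
  [1, 8192, 64, 262144, 1073741824, 33554432, 68719476736],
  [1, 64, 33554432, 524288, 8192, 1073741824, 68719476736],
  [2, 128, 4096, 262144, 16777216, 2147483648, 137438953472],
  [1, 128, 8192, 262144, 33554432, 2147483648, 68719476736],
  [1, 64, 4096, 262144, 16777216, 1073741824, 68719476736],
  [1, 65, 4096, 262144, 16777216, 1073741824, 70866960384],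
  [1, 64, 4160, 262144, 16777216, 1107296256, 68719476736],
  [1, 64, 4096, 270336, 17309696, 1073741824, 68719476736]]

/-- The matrices of the generators. -/
def genData : List (List (List Nat)) :=
  [[[1, 1, 0, 0, 0, 0, 0], [0, 1, 0, 0, 0, 0, 0], [0, 0, 1, 0, 0, 0, 0], [0, 0, 0, 1, 0, 0, 0], [0, 0, 0, 0, 1, 0, 0], [0, 0, 0, 0, 0, 1, 2], [0, 0, 0, 0, 0, 0, 1]],
  [[1, 0, 0, 0, 0, 0, 0], [0, 1, 1, 0, 0, 0, 0], [0, 0, 1, 0, 0, 0, 0], [0, 0, 0, 1, 0, 0, 0], [0, 0, 0, 0, 1, 2, 0], [0, 0, 0, 0, 0, 1, 0], [0, 0, 0, 0, 0, 0, 1]],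
  [[1, 0, 0, 0, 0, 0, 0], [0, 1, 0, 0, 0, 0, 0], [0, 0, 1, 1, 2, 0, 0], [0, 0, 0, 1, 1, 0, 0], [0, 0, 0, 0, 1, 0, 0], [0, 0, 0, 0, 0, 1, 0], [0, 0, 0, 0, 0, 0, 1]],
  [[0, 2, 0, 0, 0, 0, 0], [1, 0, 0, 0, 0, 0, 0], [0, 0, 1, 0, 0, 0, 0], [0, 0, 0, 1, 0, 0, 0], [0, 0, 0, 0, 1, 0, 0], [0, 0, 0, 0, 0, 0, 1], [0, 0, 0, 0, 0, 2, 0]],
  [[1, 0, 0, 0, 0, 0, 0], [0, 0, 2, 0, 0, 0, 0], [0, 1, 0, 0, 0, 0, 0], [0, 0, 0, 1, 0, 0, 0], [0, 0, 0, 0, 0, 1, 0], [0, 0, 0, 0, 2, 0, 0], [0, 0, 0, 0, 0, 0, 1]],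
  [[1, 0, 0, 0, 0, 0, 0], [0, 1, 0, 0, 0, 0, 0], [0, 0, 0, 0, 2, 0, 0], [0, 0, 0, 2, 0, 0, 0], [0, 0, 2, 0, 0, 0, 0], [0, 0, 0, 0, 0, 1, 0], [0, 0, 0, 0, 0, 0, 1]],
  [[2, 0, 0, 0, 0, 0, 0], [0, 2, 0, 0, 0, 0, 0], [0, 0, 1, 0, 0, 0, 0], [0, 0, 0, 1, 0, 0, 0], [0, 0, 0, 0, 1, 0, 0], [0, 0, 0, 0, 0, 2, 0], [0, 0, 0, 0, 0, 0, 2]],
  [[1, 0, 0, 0, 0, 0, 0], [0, 2, 0, 0, 0, 0, 0], [0, 0, 2, 0, 0, 0, 0], [0, 0, 0, 1, 0, 0, 0], [0, 0, 0, 0, 2, 0, 0], [0, 0, 0, 0, 0, 2, 0], [0, 0, 0, 0, 0, 0, 1]],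
  [[1, 0, 0, 0, 0, 0, 0], [0, 1, 0, 0, 0, 0, 0], [0, 0, 1, 0, 0, 0, 0], [0, 0, 0, 1, 0, 0, 0], [0, 0, 0, 0, 1, 0, 0], [0, 0, 0, 0, 0, 1, 0], [0, 0, 0, 0, 0, 0, 1]],
  [[1, 0, 0, 0, 0, 0, 0], [1, 1, 0, 0, 0, 0, 0], [0, 0, 1, 0, 0, 0, 0], [0, 0, 0, 1, 0, 0, 0], [0, 0, 0, 0, 1, 0, 0], [0, 0, 0, 0, 0, 1, 0], [0, 0, 0, 0, 0, 2, 1]],
  [[1, 0, 0, 0, 0, 0, 0], [0, 1, 0, 0, 0, 0, 0], [0, 1, 1, 0, 0, 0, 0], [0, 0, 0, 1, 0, 0, 0], [0, 0, 0, 0, 1, 0, 0], [0, 0, 0, 0, 2, 1, 0], [0, 0, 0, 0, 0, 0, 1]],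
  [[1, 0, 0, 0, 0, 0, 0], [0, 1, 0, 0, 0, 0, 0], [0, 0, 1, 0, 0, 0, 0], [0, 0, 2, 1, 0, 0, 0], [0, 0, 2, 2, 1, 0, 0], [0, 0, 0, 0, 0, 1, 0], [0, 0, 0, 0, 0, 0, 1]]]

end Cfsg.Lib.OmegaSeven
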