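import Cfsg.Agent.Lib.OmegaSeven.Basic
import Cfsg.Agent.Lib.OmegaSeven.GenData

/-!
# Squares and the generators lie in the commutator subgroup
-/

set_option autoImplicit false
set_option maxRecDepth 100000

namespace Cfsg.Lib.OmegaSeven

open Cfsg Cfsg.Lib.Linear.Orth
open scoped Matrix

/-- The commutator subgroup of the isometry group. -/
abbrev O7' : Subgroup ↥G7 := commutator ↥G7

theorem sq_mem (g : ↥G7) : g * g ∈ O7' := by
  rw [O7', ← Abelianization.ker_of, MonoidHom.mem_ker, map_mul]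
  refine refl_induction space7 (Or.inl (by simp)) (fun g => Abelianization.of g * Abelianization.of g = 1)
    (by simp) (fun v hv g ih => ?_) g
  rw [map_mul, mul_mul_mul_comm, ih, mul_one, ← map_mul, rI_sq space7 hv, map_one]

theorem mem_of_pow_three {g : ↥G7} (h : g ^ 3 = 1) : g ∈ O7' := by
  have := sq_mem (g ^ 2)
  rwa [← pow_add, show 2 + 2 = 3 + 1 by norm_num, pow_add, h, one_mul, pow_one] at this

theorem mem_iso_gram {g : GL (Fin 7) K} (h : g.valᵀ * gram * g.val = gram) : g ∈ G7 := by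
  refine mem_iso.mpr fun v => ?_
  have hQ : ∀ w : V, Q7 w = 2 * (w ⬝ᵥ gram *ᵥ w) := fun w => by
    rw [← B7_eq, space7.self, ← mul_assoc, show (2 : K) * 2 = 1 by decide, one_mul]
  rw [hQ, hQ, Matrix.mulVec_mulVec, ← Matrix.vecMul_transpose, ← Matrix.dotProduct_mulVec,
    Matrix.mulVec_mulVec, ← Matrix.mul_assoc, h]

/-- The list of the `i`th generator. -/
def gLst (i : ℕ) : List (List ℕ) := genData.getD i []

/-- The `i`th generator. -/
noncomputable def gGL (i : ℕ) : GL (Fin 7) K := toGL (toM (gLst i))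

theorem gen_checks : ∀ i : Fin 12, (toM (gLst i))ᵀ * gram * toM (gLst i) = gram := by
  decide +kernel

theorem gen_inv : ∀ i : Fin 12, toM (gLst i) * toM (mulN (mulN (gLst i) (gLst i)) (gLst i)) = 1 ∨
    toM (gLst i) * toM (mulN (gLst i) (gLst i)) = 1 ∨ toM (gLst i) * toM (gLst i) = 1 := by
  decide +kernel

theorem gGL_val {i : ℕ} (hi : i < 12) : (gGL i).val = toM (gLst i) := by
  rcases gen_inv ⟨i, hi⟩ with h | h | h <;> exact toGL_val h

theorem gGL_mem {i : ℕ} (hi : i < 12) : gGL i ∈ G7 :=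
  mem_iso_gram (by rw [gGL_val hi]; exact gen_checks ⟨i, hi⟩)

/-- The generator in the isometry group. -/
noncomputable def gI (i : ℕ) (hi : i < 12) : ↥G7 := ⟨gGL i, gGL_mem hi⟩

theorem pos_cube : ∀ i : Fin 12, ((i : ℕ) < 3 ∨ 9 ≤ (i : ℕ)) →
    toM (mulN (mulN (gLst i) (gLst i)) (gLst i)) = 1 := by
  decide +kernel

theorem weyl_words : ∀ i : Fin 3,
    toM (gLst (i + 3)) = toM (mulN (mulN (mulN (gLst i) (gLst i)) (gLst (i + 9))) (mulN (gLst i) (gLst i))) ∧
    toM (gLst (i + 6)) = toM (mulN (gLst (i + 3)) (gLst (i + 3))) := by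
  decide +kernel

theorem gI_root_mem {i : ℕ} (hi : i < 12) (h : i < 3 ∨ 9 ≤ i) : gI i hi ∈ O7' := by
  refine mem_of_pow_three (Subtype.ext (Units.ext ?_))
  show ((gGL i) ^ 3).val = 1
  rw [Units.val_pow_eq_pow_val, gGL_val hi, pow_succ, pow_two, ← toM_mulN, ← toM_mulN]
  exact pos_cube ⟨i, hi⟩ h

theorem gI_mem {i : ℕ} (hi : i < 12) : gI i hi ∈ O7' := by
  by_cases h : i < 3 ∨ 9 ≤ i
  · exact gI_root_mem hi h
  push Not at h
  have hw : ∀ j : Fin 3, gI (j + 3) (by omega) ∈ O7' := fun j => by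
    have e : gI (j + 3) (by omega) =
        gI j (by omega) * gI j (by omega) * gI (j + 9) (by omega) * (gI j (by omega) * gI j (by omega)) :=
      Subtype.ext (Units.ext (by
        show (gGL _).val = ((gGL _ * gGL _ * gGL _ * (gGL _ * gGL _)) : GL (Fin 7) K).val
        simp only [Units.val_mul, gGL_val (show (j : ℕ) + 3 < 12 by omega), gGL_val (show (j : ℕ) < 12 by omega),
          gGL_val (show (j : ℕ) + 9 < 12 by omega), ← toM_mulN]
        exact (weyl_words j).1))
    have hj := gI_root_mem (i := j) (by omega) (Or.inl j.2)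
    have hj' := gI_root_mem (i := j + 9) (by omega) (Or.inr (by omega))
    rw [e]
    exact mul_mem (mul_mem (mul_mem hj hj) hj') (mul_mem hj hj)
  by_cases h6 : i < 6
  · obtain ⟨j, rfl⟩ : ∃ j, i = j + 3 := ⟨i - 3, by omega⟩
    exact hw ⟨j, by omega⟩
  · obtain ⟨j, rfl⟩ : ∃ j, i = j + 6 := ⟨i - 6, by omega⟩
    have e : gI (j + 6) hi = gI (j + 3) (by omega) * gI (j + 3) (by omega) :=
      Subtype.ext (Units.ext (by
        show (gGL _).val = ((gGL _ * gGL _) : GL (Fin 7) K).val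
        simp only [Units.val_mul, gGL_val hi, gGL_val (show j + 3 < 12 by omega), ← toM_mulN]
        exact (weyl_words ⟨j, by omega⟩).2))
    rw [e]
    exact mul_mem (hw ⟨j, by omega⟩) (hw ⟨j, by omega⟩)

end Cfsg.Lib.OmegaSeven
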