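import Cfsg.Agent.Lib.OmegaSeven.PackDef
import Cfsg.Agent.Lib.OmegaSeven.NodeData
import Cfsg.Agent.Lib.OmegaSeven.GenData

/-!
# The certificate of the forest on the elements of order three
-/

set_option autoImplicit false
set_option maxRecDepth 100000

namespace Cfsg.Lib.OmegaSeven

/-- The entries of an upper unitriangular isometry from its nine parameters, before reduction. -/
def uEnt (a b c d1 d2 d3 r2 r1 q1 : Nat) : List (List Nat) :=
  let t := 2 * c
  let v := 2 * a
  let w := 2 * b + a * c
  let s := d3
  let u := d2 + d3 * t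
  let z := d1 + d2 * v + d3 * w
  let r3 := 2 * (s * s)
  let q3 := 2 * (2 * s * u + r3 * t + r2)
  let q2 := 2 * (u * u + t * q3)
  let n3 := 2 * (2 * s * z + r1 + r2 * v + r3 * w)
  let n2 := 2 * (2 * u * z + q1 + q2 * v + q3 * w + t * n3)
  let n1 := 2 * (z * z + v * n2 + w * n3)
  [[1, a, b, d1, r1, q1, n1], [0, 1, c, d2, r2, q2, n2], [0, 0, 1, d3, r3, q3, n3],
    [0, 0, 0, 1, s, u, z], [0, 0, 0, 0, 1, t, w], [0, 0, 0, 0, 0, 1, v], [0, 0, 0, 0, 0, 0, 1]]

/-- A base three digit. -/
def dig (p i : Nat) : Nat := p / 3 ^ i % 3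

/-- The packed rows of the element with code `p`. -/
def mRow (p i : Nat) : Nat :=
  let r := (uEnt (dig p 0) (dig p 1) (dig p 2) (dig p 3) (dig p 4) (dig p 5) (dig p 6) (dig p 7) (dig p 8)).getD i []
  pack fun j => r.getD j.val 0 % 3

/-- The packed rows of the `k`th generator. -/
def gRow (k i : Nat) : Nat := (genRow.getD k []).getD i 0

/-- A packed row times a matrix given by packed rows. -/
def rowMul (q : Nat) (P : Nat → Nat) : Nat := lin7 (fun j => lane q j % 3) P

/-- The code of a node. -/
def node (p : Nat) : Nat := look nodeA 243 p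

/-- The roots of the forest. -/
def rootList : List Nat := [6561, 243, 6804, 13365, 2196, 1467, 765]

/-- The certificate of one node. -/
def chkNode (p : Nat) : Bool :=
  if node p % 8 < 7 then
    red3 (rowMul (red3 (rowMul (mRow p (node p % 8)) (mRow p))) (mRow p)) != 64 ^ (node p % 8)
  else if node p / 128 % 10 = 9 then p == 0 || rootList.contains p
  else
    decide (node p / 1280 < 19683) && (node (node p / 1280) % 8 == 7) &&
    decide (node (node p / 1280) / 8 % 16 < node p / 8 % 16) && decide (node p / 128 % 10 < 9) &&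
    [0, 1, 2, 3, 4, 5, 6].all fun i => red3 (rowMul (gRow (node p / 128 % 10) i) (mRow p)) ==
      red3 (rowMul (mRow (node p / 1280) i) (gRow (node p / 128 % 10)))

/-- A block of 243 nodes. -/
def chkNodes (b : Nat) : Bool := (List.range 243).all fun i => chkNode (243 * b + i)

end Cfsg.Lib.OmegaSeven
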