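import Cfsg.Agent.Lib.OmegaSeven.NodeCheck

/-!
# The forest certificate, part 0
-/

set_option autoImplicit false
set_option maxRecDepth 100000
set_option Elab.async false

namespace Cfsg.Lib.OmegaSeven

theorem nodes_0 : chkNodes 0 = true := by decide +kernel

theorem nodes_1 : chkNodes 1 = true := by decide +kernel

theorem nodes_2 : chkNodes 2 = true := by decide +kernel

theorem nodes_3 : chkNodes 3 = true := by decide +kernel

theorem nodes_4 : chkNodes 4 = true := by decide +kernel

theorem nodes_5 : chkNodes 5 = true := by decide +kernel

theorem nodes_6 : chkNodes 6 = true := by decide +kernel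

theorem nodes_7 : chkNodes 7 = true := by decide +kernel

theorem nodes_8 : chkNodes 8 = true := by decide +kernel

end Cfsg.Lib.OmegaSeven
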