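import Cfsg.Agent.Lib.OmegaSeven.NodeCheck

/-!
# The forest certificate, part 1
-/

set_option autoImplicit false
set_option maxRecDepth 100000
set_option Elab.async false

namespace Cfsg.Lib.OmegaSeven

theorem nodes_9 : chkNodes 9 = true := by decide +kernel

theorem nodes_10 : chkNodes 10 = true := by decide +kernel

theorem nodes_11 : chkNodes 11 = true := by decide +kernel

theorem nodes_12 : chkNodes 12 = true := by decide +kernel

theorem nodes_13 : chkNodes 13 = true := by decide +kernel

theorem nodes_14 : chkNodes 14 = true := by decide +kernel

theorem nodes_15 : chkNodes 15 = true := by decide +kernel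

theorem nodes_16 : chkNodes 16 = true := by decide +kernel

theorem nodes_17 : chkNodes 17 = true := by decide +kernel

end Cfsg.Lib.OmegaSeven
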