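import Cfsg.Agent.Lib.OmegaSeven.NodeCheck

/-!
# The forest certificate, part 2
-/

set_option autoImplicit false
set_option maxRecDepth 100000
set_option Elab.async false

namespace Cfsg.Lib.OmegaSeven

theorem nodes_18 : chkNodes 18 = true := by decide +kernel

theorem nodes_19 : chkNodes 19 = true := by decide +kernel

theorem nodes_20 : chkNodes 20 = true := by decide +kernel

theorem nodes_21 : chkNodes 21 = true := by decide +kernel

theorem nodes_22 : chkNodes 22 = true := by decide +kernel

theorem nodes_23 : chkNodes 23 = true := by decide +kernel

theorem nodes_24 : chkNodes 24 = true := by decide +kernel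

theorem nodes_25 : chkNodes 25 = true := by decide +kernel

theorem nodes_26 : chkNodes 26 = true := by decide +kernel

end Cfsg.Lib.OmegaSeven
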