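import Cfsg.Agent.Lib.OmegaSeven.NodeCheck

/-!
# The forest certificate, part 3
-/

set_option autoImplicit false
set_option maxRecDepth 100000
set_option Elab.async false

namespace Cfsg.Lib.OmegaSeven

theorem nodes_27 : chkNodes 27 = true := by decide +kernel

theorem nodes_28 : chkNodes 28 = true := by decide +kernel

theorem nodes_29 : chkNodes 29 = true := by decide +kernel

theorem nodes_30 : chkNodes 30 = true := by decide +kernel

theorem nodes_31 : chkNodes 31 = true := by decide +kernel

theorem nodes_32 : chkNodes 32 = true := by decide +kernel

theorem nodes_33 : chkNodes 33 = true := by decide +kernel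

theorem nodes_34 : chkNodes 34 = true := by decide +kernel

theorem nodes_35 : chkNodes 35 = true := by decide +kernel

end Cfsg.Lib.OmegaSeven
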