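import Cfsg.Agent.Lib.OmegaSeven.NodeCheck

/-!
# The forest certificate, part 4
-/

set_option autoImplicit false
set_option maxRecDepth 100000
set_option Elab.async false

namespace Cfsg.Lib.OmegaSeven

theorem nodes_36 : chkNodes 36 = true := by decide +kernel

theorem nodes_37 : chkNodes 37 = true := by decide +kernel

theorem nodes_38 : chkNodes 38 = true := by decide +kernel

theorem nodes_39 : chkNodes 39 = true := by decide +kernel

theorem nodes_40 : chkNodes 40 = true := by decide +kernel

theorem nodes_41 : chkNodes 41 = true := by decide +kernel

theorem nodes_42 : chkNodes 42 = true := by decide +kernel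

theorem nodes_43 : chkNodes 43 = true := by decide +kernel

theorem nodes_44 : chkNodes 44 = true := by decide +kernel

end Cfsg.Lib.OmegaSeven
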