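import Cfsg.Agent.Lib.OmegaSeven.NodeCheck

/-!
# The forest certificate, part 5
-/

set_option autoImplicit false
set_option maxRecDepth 100000
set_option Elab.async false

namespace Cfsg.Lib.OmegaSeven

theorem nodes_45 : chkNodes 45 = true := by decide +kernel

theorem nodes_46 : chkNodes 46 = true := by decide +kernel

theorem nodes_47 : chkNodes 47 = true := by decide +kernel

theorem nodes_48 : chkNodes 48 = true := by decide +kernel

theorem nodes_49 : chkNodes 49 = true := by decide +kernel

theorem nodes_50 : chkNodes 50 = true := by decide +kernel

theorem nodes_51 : chkNodes 51 = true := by decide +kernel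

theorem nodes_52 : chkNodes 52 = true := by decide +kernel

theorem nodes_53 : chkNodes 53 = true := by decide +kernel

end Cfsg.Lib.OmegaSeven
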