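import Cfsg.Agent.Lib.OmegaSeven.NodeCheck

/-!
# The forest certificate, part 6
-/

set_option autoImplicit false
set_option maxRecDepth 100000
set_option Elab.async false

namespace Cfsg.Lib.OmegaSeven

theorem nodes_54 : chkNodes 54 = true := by decide +kernel

theorem nodes_55 : chkNodes 55 = true := by decide +kernel

theorem nodes_56 : chkNodes 56 = true := by decide +kernel

theorem nodes_57 : chkNodes 57 = true := by decide +kernel

theorem nodes_58 : chkNodes 58 = true := by decide +kernel

theorem nodes_59 : chkNodes 59 = true := by decide +kernel

theorem nodes_60 : chkNodes 60 = true := by decide +kernel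

theorem nodes_61 : chkNodes 61 = true := by decide +kernel

theorem nodes_62 : chkNodes 62 = true := by decide +kernel

end Cfsg.Lib.OmegaSeven
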