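import Cfsg.Agent.Lib.OmegaSeven.NodeCheck

/-!
# The forest certificate, part 7
-/

set_option autoImplicit false
set_option maxRecDepth 100000
set_option Elab.async false

namespace Cfsg.Lib.OmegaSeven

theorem nodes_63 : chkNodes 63 = true := by decide +kernel

theorem nodes_64 : chkNodes 64 = true := by decide +kernel

theorem nodes_65 : chkNodes 65 = true := by decide +kernel

theorem nodes_66 : chkNodes 66 = true := by decide +kernel

theorem nodes_67 : chkNodes 67 = true := by decide +kernel

theorem nodes_68 : chkNodes 68 = true := by decide +kernel

theorem nodes_69 : chkNodes 69 = true := by decide +kernel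

theorem nodes_70 : chkNodes 70 = true := by decide +kernel

theorem nodes_71 : chkNodes 71 = true := by decide +kernel

end Cfsg.Lib.OmegaSeven
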