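import Cfsg.Agent.Lib.OmegaSeven.NodeCheck

/-!
# The forest certificate, part 8
-/

set_option autoImplicit false
set_option maxRecDepth 100000
set_option Elab.async false

namespace Cfsg.Lib.OmegaSeven

theorem nodes_72 : chkNodes 72 = true := by decide +kernel

theorem nodes_73 : chkNodes 73 = true := by decide +kernel

theorem nodes_74 : chkNodes 74 = true := by decide +kernel

theorem nodes_75 : chkNodes 75 = true := by decide +kernel

theorem nodes_76 : chkNodes 76 = true := by decide +kernel

theorem nodes_77 : chkNodes 77 = true := by decide +kernel

theorem nodes_78 : chkNodes 78 = true := by decide +kernel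

theorem nodes_79 : chkNodes 79 = true := by decide +kernel

theorem nodes_80 : chkNodes 80 = true := by decide +kernel

end Cfsg.Lib.OmegaSeven
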