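import Cfsg.Agent.Lib.OmegaSeven.Gens
import Cfsg.Agent.Lib.OmegaSeven.Pack
import Cfsg.Agent.Lib.OmegaSeven.NodeCheck

/-!
# The upper unitriangular isometries form a Sylow 3-subgroup with nine parameters
-/

set_option autoImplicit false
set_option maxRecDepth 100000
set_option maxHeartbeats 1000000

namespace Cfsg.Lib.OmegaSeven

open Cfsg Cfsg.Lib.Linear.Orth
open scoped Matrix

theorem three_K : (3 : K) = 0 := by decide

theorem mult_three_K : (6 : K) = 0 ∧ (9 : K) = 0 ∧ (12 : K) = 0 ∧ (15 : K) = 0 ∧ (18 : K) = 0 ∧ (21 : K) = 0 ∧ (24 : K) = 0 ∧ (27 : K) = 0 ∧ (30 : K) = 0 ∧ (36 : K) = 0 ∧ (48 : K) = 0 ∧ (54 : K) = 0 ∧ (72 : K) = 0 ∧ (78 : K) = 0 ∧ (216 : K) = 0 ∧ (234 : K) = 0 ∧ (540 : K) = 0 ∧ (108 : K) = 0 ∧ (144 : K) = 0 ∧ (324 : K) = 0 ∧ (432 : K) = 0 ∧ (648 : K) = 0 ∧ (1944 : K) = 0 ∧ (4374 : K) = 0 := by decide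

/-- The matrix of an upper unitriangular isometry from its nine parameters. -/
def uK (a b c d1 d2 d3 r2 r1 q1 : K) : Matrix (Fin 7) (Fin 7) K :=
  let t := 2 * c
  let v := 2 * a
  let w := 2 * b + a * c
  let s := d3
  let u := d2 + d3 * t
  let z := d1 + d2 * v + d3 * w
  let r3 := 2 * (s * s)
  let q3 := 2 * (2 * s * u + r3 * t + r2)
  let q2 := 2 * (u * u + t * q3)
  let n3 := 2 * (2 * s * z + r1 + r2 * v + r3 * w)
  let n2 := 2 * (2 * u * z + q1 + q2 * v + q3 * w + t * n3)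
  let n1 := 2 * (z * z + v * n2 + w * n3)
  !![1, a, b, d1, r1, q1, n1; 0, 1, c, d2, r2, q2, n2; 0, 0, 1, d3, r3, q3, n3;
    0, 0, 0, 1, s, u, z; 0, 0, 0, 0, 1, t, w; 0, 0, 0, 0, 0, 1, v; 0, 0, 0, 0, 0, 0, 1]

/-- The element with code `p`. -/
def uMat (p : ℕ) : Matrix (Fin 7) (Fin 7) K :=
  uK (dig p 0) (dig p 1) (dig p 2) (dig p 3) (dig p 4) (dig p 5) (dig p 6) (dig p 7) (dig p 8)

theorem uEnt_cast (a b c d1 d2 d3 r2 r1 q1 : ℕ) (i j : Fin 7) :
    ((((uEnt a b c d1 d2 d3 r2 r1 q1).getD i []).getD j 0 : ℕ) : K) =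
      uK a b c d1 d2 d3 r2 r1 q1 i j := by
  fin_cases i <;> fin_cases j <;> simp [uEnt, uK]

theorem mRow_eq (p : ℕ) (i : Fin 7) : mRow p i = packV (uMat p i) := by
  simp only [mRow, packV, uMat, ← uEnt_cast, ZMod.val_natCast]

theorem unpack_mRow (p : ℕ) (i : Fin 7) : unpack (mRow p i) = uMat p i := by
  rw [mRow_eq, unpack_packV]

theorem uK_iso (a b c d1 d2 d3 r2 r1 q1 : K) :
    (uK a b c d1 d2 d3 r2 r1 q1)ᵀ * gram * uK a b c d1 d2 d3 r2 r1 q1 = gram := by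
  refine Matrix.ext fun i j => ?_
  fin_cases i <;> fin_cases j <;>
    simp [uK, gram, Matrix.mul_apply, Fin.sum_univ_seven] <;> (try ring_nf) <;> (try simp [three_K, mult_three_K]) <;>
    (try ring_nf) <;> (try simp [three_K, mult_three_K])

theorem uK_mul_gram (p : ℕ) : (gram * (uMat p)ᵀ * gram) * uMat p = 1 := by
  have h := congrArg (gram * ·) (uK_iso (dig p 0 : K) (dig p 1) (dig p 2) (dig p 3) (dig p 4) (dig p 5)
    (dig p 6) (dig p 7) (dig p 8))
  simpa [uMat, Matrix.mul_assoc, gram_mul_gram] using h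

/-- The element with code `p` as an invertible matrix. -/
noncomputable def uGL (p : ℕ) : GL (Fin 7) K := toGL (uMat p)

theorem uGL_val (p : ℕ) : (uGL p).val = uMat p := toGL_val (mul_eq_one_comm.mp (uK_mul_gram p))

theorem uGL_mem (p : ℕ) : uGL p ∈ G7 := mem_iso_gram (by rw [uGL_val]; exact uK_iso _ _ _ _ _ _ _ _ _)

/-- The element with code `p` in the isometry group. -/
noncomputable def uI (p : ℕ) : ↥G7 := ⟨uGL p, uGL_mem p⟩

/-- Upper unitriangular matrices. -/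
def IsUpper (M : Matrix (Fin 7) (Fin 7) K) : Prop := ∀ i j, j ≤ i → M i j = if i = j then 1 else 0

theorem IsUpper.mul {M N : Matrix (Fin 7) (Fin 7) K} (hM : IsUpper M) (hN : IsUpper N) : IsUpper (M * N) := by
  intro i j hji
  rw [Matrix.mul_apply, Finset.sum_eq_single i (fun k _ hk => ?_) (fun h => absurd (Finset.mem_univ i) h),
    hM i i le_rfl, hN i j hji, if_pos rfl, one_mul]
  rcases lt_or_gt_of_ne hk with h | h
  · rw [hM i k h.le, if_neg h.ne', zero_mul]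
  · rw [hN k j (hji.trans h.le), if_neg (ne_of_gt (lt_of_le_of_lt hji h)), mul_zero]

/-- The upper unitriangular isometries. -/
noncomputable def Uni : Subgroup ↥G7 where
  carrier := {g | IsUpper (g : GL (Fin 7) K).val}
  mul_mem' hg hh := IsUpper.mul hg hh
  one_mem' := fun i j _ => Matrix.one_apply
  inv_mem' := by
    intro g hg
    have hpow : ∀ n : ℕ, IsUpper ((g ^ n : ↥G7) : GL (Fin 7) K).val := fun n => by
      induction n with
      | zero => exact fun i j _ => Matrix.one_apply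
      | succ n ih => rw [pow_succ]; exact IsUpper.mul ih hg
    have h1 : g⁻¹ = g ^ (orderOf g - 1) := by
      refine inv_eq_of_mul_eq_one_right ?_
      rw [← pow_succ', Nat.sub_add_cancel (orderOf_pos g), pow_orderOf_eq_one]
    show IsUpper _
    rw [h1]
    exact hpow _

theorem uMat_upper (p : ℕ) : IsUpper (uMat p) := by
  intro i j h
  fin_cases i <;> fin_cases j <;> first | exact absurd h (by decide) | simp [uMat, uK]

/-- The code of nine parameters. -/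
def codeNine (x : Fin 9 → K) : ℕ := (finFunctionFinEquiv (fun i => (⟨(x i).val, ZMod.val_lt _⟩ : Fin 3)) : ℕ)

theorem dig_codeNine (x : Fin 9 → K) (i : Fin 9) : ((dig (codeNine x) i : ℕ) : K) = x i := by
  have h : dig (codeNine x) i = (x i).val := by
    rw [dig, codeNine, ← finFunctionFinEquiv_symm_apply_val, Equiv.symm_apply_apply]
  rw [h]
  exact ZMod.natCast_rightInverse (x i)

theorem upper_eq_uK {M : Matrix (Fin 7) (Fin 7) K} (hu : IsUpper M) (hg : Mᵀ * gram * M = gram) :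
    M = uK (M 0 1) (M 0 2) (M 1 2) (M 0 3) (M 1 3) (M 2 3) (M 1 4) (M 0 4) (M 0 5) := by
  have h0 : ∀ i j : Fin 7, j < i → M i j = 0 := fun i j h => by rw [hu i j h.le, if_neg h.ne']
  have h1 : ∀ i : Fin 7, M i i = 1 := fun i => by rw [hu i i le_rfl, if_pos rfl]
  have e : ∀ i j, ∑ x, (∑ k, M k i * gram k x) * M x j = gram i j := fun i j => by
    have := congrFun (congrFun hg i) j
    simpa [Matrix.mul_apply] using this
  have e25 := e 2 5; have e16 := e 1 6; have e26 := e 2 6; have e34 := e 3 4; have e35 := e 3 5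
  have e36 := e 3 6; have e44 := e 4 4; have e45 := e 4 5; have e55 := e 5 5; have e46 := e 4 6
  have e56 := e 5 6; have e66 := e 6 6
  simp [gram, Fin.sum_univ_seven, h0, h1] at e25 e16 e26 e34 e35 e36 e44 e45 e55 e46 e56 e66
  have v : M 5 6 = 2 * M 0 1 := by linear_combination e16 - M 0 1 * three_K
  have t : M 4 5 = 2 * M 1 2 := by linear_combination e25 - M 1 2 * three_K
  have w : M 4 6 = 2 * M 0 2 + M 0 1 * M 1 2 := by
    linear_combination e26 - M 1 2 * v - (M 0 2 + M 0 1 * M 1 2) * three_K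
  have s : M 3 4 = M 2 3 := by linear_combination 2 * e34 - (M 2 3 + M 3 4) * three_K
  have u : M 3 5 = M 1 3 + M 2 3 * (2 * M 1 2) := by
    linear_combination 2 * e35 - 2 * M 2 3 * t - (M 3 5 + M 1 3 + 2 * M 2 3 * M 1 2) * three_K
  have z : M 3 6 = M 0 3 + M 1 3 * (2 * M 0 1) + M 2 3 * (2 * M 0 2 + M 0 1 * M 1 2) := by
    linear_combination 2 * e36 - 2 * M 1 3 * v - 2 * M 2 3 * w -
      (M 3 6 + M 0 3 + 2 * M 1 3 * M 0 1 + M 2 3 * (2 * M 0 2 + M 0 1 * M 1 2)) * three_K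
  have r3 : M 2 4 = 2 * (M 2 3 * M 2 3) := by
    have := e44
    rw [s] at this
    linear_combination 2 * this - (M 2 4 + 2 * (M 2 3 * M 2 3)) * three_K
  have q3 : M 2 5 = 2 * (2 * M 2 3 * M 3 5 + M 2 4 * M 4 5 + M 1 4) := by
    rw [s] at e45
    linear_combination e45 - (2 * M 2 3 * M 3 5 + M 2 4 * M 4 5 + M 1 4) * three_K
  have q2 : M 1 5 = 2 * (M 3 5 * M 3 5 + M 4 5 * M 2 5) := by
    linear_combination 2 * e55 - (M 1 5 + 2 * (M 3 5 * M 3 5 + M 4 5 * M 2 5)) * three_K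
  have n3 : M 2 6 = 2 * (2 * M 2 3 * M 3 6 + M 0 4 + M 1 4 * M 5 6 + M 2 4 * M 4 6) := by
    rw [s] at e46
    linear_combination e46 - (2 * M 2 3 * M 3 6 + M 0 4 + M 1 4 * M 5 6 + M 2 4 * M 4 6) * three_K
  have n2 : M 1 6 = 2 * (2 * M 3 5 * M 3 6 + M 0 5 + M 1 5 * M 5 6 + M 2 5 * M 4 6 + M 4 5 * M 2 6) := by
    linear_combination e56 -
      (2 * M 3 5 * M 3 6 + M 0 5 + M 1 5 * M 5 6 + M 2 5 * M 4 6 + M 4 5 * M 2 6) * three_K
  have n1 : M 0 6 = 2 * (M 3 6 * M 3 6 + M 5 6 * M 1 6 + M 4 6 * M 2 6) := by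
    linear_combination 2 * e66 - (M 0 6 + 2 * (M 3 6 * M 3 6 + M 5 6 * M 1 6 + M 4 6 * M 2 6)) * three_K
  rw [t] at q3 q2 n2
  rw [u] at q3 q2 n2
  rw [r3] at q3 n3
  rw [v, w] at n3 n2 n1
  rw [z] at n3 n2 n1
  rw [q3] at q2 n2
  rw [q2, n3] at n2
  rw [n3, n2] at n1
  refine Matrix.ext fun i j => ?_
  fin_cases i <;> fin_cases j <;>
    simp [uK, h0, h1, v, t, w, s, u, z, r3, q3, q2, n3, n2, n1]

theorem uMat_params (p : ℕ) :
    uMat p 0 1 = dig p 0 ∧ uMat p 0 2 = dig p 1 ∧ uMat p 1 2 = dig p 2 ∧ uMat p 0 3 = dig p 3 ∧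
      uMat p 1 3 = dig p 4 ∧ uMat p 2 3 = dig p 5 ∧ uMat p 1 4 = dig p 6 ∧ uMat p 0 4 = dig p 7 ∧
      uMat p 0 5 = dig p 8 := by
  simp [uMat, uK]

theorem mem_Uni_iff {g : ↥G7} : g ∈ Uni ↔ ∃ p < 19683, g = uI p := by
  constructor
  · intro hg
    set M := (g : GL (Fin 7) K).val with hM
    let x : Fin 9 → K := ![M 0 1, M 0 2, M 1 2, M 0 3, M 1 3, M 2 3, M 1 4, M 0 4, M 0 5]
    refine ⟨codeNine x, (finFunctionFinEquiv _).2, Subtype.ext (Units.ext ?_)⟩
    show M = (uGL _).val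
    rw [uGL_val, show M = uK _ _ _ _ _ _ _ _ _ from upper_eq_uK hg (gram_inv g.2), uMat]
    have h0 := dig_codeNine x 0; have h1 := dig_codeNine x 1; have h2 := dig_codeNine x 2
    have h3 := dig_codeNine x 3; have h4 := dig_codeNine x 4; have h5 := dig_codeNine x 5
    have h6 := dig_codeNine x 6; have h7 := dig_codeNine x 7; have h8 := dig_codeNine x 8
    simp [x] at h0 h1 h2 h3 h4 h5 h6 h7 h8
    rw [h0, h1, h2, h3, h4, h5, h6, h7, h8]
  · rintro ⟨p, -, rfl⟩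
    show IsUpper (uGL p).val
    rw [uGL_val]
    exact uMat_upper p

theorem uI_injective {p q : ℕ} (hp : p < 19683) (hq : q < 19683) (h : uI p = uI q) : p = q := by
  have hM : uMat p = uMat q := by
    rw [← uGL_val, ← uGL_val]
    exact congrArg (fun g : ↥G7 => (g : GL (Fin 7) K).val) h
  obtain ⟨a0, a1, a2, a3, a4, a5, a6, a7, a8⟩ := uMat_params p
  rw [hM] at a0 a1 a2 a3 a4 a5 a6 a7 a8
  obtain ⟨b0, b1, b2, b3, b4, b5, b6, b7, b8⟩ := uMat_params q
  have key : ∀ i, ((dig p i : ℕ) : K) = dig q i → p / 3 ^ i % 3 = q / 3 ^ i % 3 := fun i he => by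
    have := congrArg ZMod.val he
    simpa [ZMod.val_natCast, dig] using this
  have e0 := key 0 (a0.symm.trans b0); have e1 := key 1 (a1.symm.trans b1)
  have e2 := key 2 (a2.symm.trans b2); have e3 := key 3 (a3.symm.trans b3)
  have e4 := key 4 (a4.symm.trans b4); have e5 := key 5 (a5.symm.trans b5)
  have e6 := key 6 (a6.symm.trans b6); have e7 := key 7 (a7.symm.trans b7)
  have e8 := key 8 (a8.symm.trans b8)
  norm_num at e0 e1 e2 e3 e4 e5 e6 e7 e8
  omega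

theorem card_Uni : Nat.card ↥Uni = 3 ^ 9 := by
  let f : Fin 19683 → ↥Uni := fun p => ⟨uI p, mem_Uni_iff.mpr ⟨p, p.2, rfl⟩⟩
  have hf : Function.Bijective f := by
    refine ⟨fun p q h => Fin.ext (uI_injective p.2 q.2 (congrArg Subtype.val h)), fun g => ?_⟩
    obtain ⟨p, hp, he⟩ := mem_Uni_iff.mp g.2
    exact ⟨⟨p, hp⟩, Subtype.ext he.symm⟩
  rw [← Nat.card_eq_of_bijective f hf, Nat.card_eq_fintype_card, Fintype.card_fin]
  norm_num

theorem Uni_le : Uni ≤ O7' := by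
  intro g hg
  obtain ⟨k, hk⟩ : ∃ k, orderOf g = 3 ^ k := by
    have h := orderOf_dvd_natCard (⟨g, hg⟩ : ↥Uni)
    rw [card_Uni, Subgroup.orderOf_mk] at h
    obtain ⟨k, -, hk⟩ := (Nat.dvd_prime_pow (by norm_num)).mp h
    exact ⟨k, hk⟩
  have hodd : Odd (3 ^ k) := Odd.pow (by decide)
  obtain ⟨m, hm⟩ := hodd
  have e : g = g ^ (m + 1) * g ^ (m + 1) := by
    rw [← pow_add, show m + 1 + (m + 1) = (2 * m + 1) + 1 by ring, pow_succ, ← hm, ← hk,
      pow_orderOf_eq_one, one_mul]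
  rw [e]
  exact sq_mem _

end Cfsg.Lib.OmegaSeven
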