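import Cfsg.Agent.Lib.OmegaSeven.Frames
import Cfsg.Agent.Lib.OmegaSeven.Unipotent
import Cfsg.Agent.Lib.OmegaSeven.NodeCheck0
import Cfsg.Agent.Lib.OmegaSeven.NodeCheck1
import Cfsg.Agent.Lib.OmegaSeven.NodeCheck2
import Cfsg.Agent.Lib.OmegaSeven.NodeCheck3
import Cfsg.Agent.Lib.OmegaSeven.NodeCheck4
import Cfsg.Agent.Lib.OmegaSeven.NodeCheck5
import Cfsg.Agent.Lib.OmegaSeven.NodeCheck6
import Cfsg.Agent.Lib.OmegaSeven.NodeCheck7
import Cfsg.Agent.Lib.OmegaSeven.NodeCheck8

/-!
# Computed values at the seven representatives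
-/

set_option autoImplicit false
set_option maxRecDepth 100000
set_option maxHeartbeats 1000000
set_option Elab.async false

namespace Cfsg.Lib.OmegaSeven

open Cfsg Cfsg.Lib.Linear.Orth
open scoped Matrix

/-- The codes of the seven representatives. -/
def rep : Fin 7 → ℕ := ![6561, 243, 6804, 13365, 2196, 1467, 765]

theorem nodes_ok (p : ℕ) (hp : p < 19683) : chkNode p = true := by
  have h : ∀ b : Fin 81, chkNodes b = true := by
    intro b
    fin_cases b
    exacts [nodes_0, nodes_1, nodes_2, nodes_3, nodes_4, nodes_5, nodes_6, nodes_7, nodes_8, nodes_9, nodes_10,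
      nodes_11, nodes_12, nodes_13, nodes_14, nodes_15, nodes_16, nodes_17, nodes_18, nodes_19, nodes_20,
      nodes_21, nodes_22, nodes_23, nodes_24, nodes_25, nodes_26, nodes_27, nodes_28, nodes_29, nodes_30,
      nodes_31, nodes_32, nodes_33, nodes_34, nodes_35, nodes_36, nodes_37, nodes_38, nodes_39, nodes_40,
      nodes_41, nodes_42, nodes_43, nodes_44, nodes_45, nodes_46, nodes_47, nodes_48, nodes_49, nodes_50,
      nodes_51, nodes_52, nodes_53, nodes_54, nodes_55, nodes_56, nodes_57, nodes_58, nodes_59, nodes_60,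
      nodes_61, nodes_62, nodes_63, nodes_64, nodes_65, nodes_66, nodes_67, nodes_68, nodes_69, nodes_70,
      nodes_71, nodes_72, nodes_73, nodes_74, nodes_75, nodes_76, nodes_77, nodes_78, nodes_79, nodes_80]
  have h1 := h ⟨p / 243, by omega⟩
  simp only [chkNodes, List.all_eq_true, List.mem_range] at h1
  have h2 := h1 (p % 243) (Nat.mod_lt _ (by norm_num))
  rwa [show 243 * (p / 243) + p % 243 = p from Nat.div_add_mod _ _] at h2

/-- The fixed vector counts at one representative. -/
def FixOK (r : Fin 7) : Prop :=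
    ((Finset.univ : Finset (Fin 2187)).filter fun n : Fin 2187 => uMat (rep r) *ᵥ vec n = vec n ∧ Q7 (vec n) = 0).card =
      ![81, 99, 27, 27, 9, 63, 9] r ∧
    ((Finset.univ : Finset (Fin 2187)).filter fun n : Fin 2187 => uMat (rep r) *ᵥ vec n = vec n ∧ Q7 (vec n) = 1).card =
      ![108, 72, 0, 0, 18, 90, 0] r

instance (r : Fin 7) : Decidable (FixOK r) := by unfold FixOK; infer_instance

theorem fix_values_0 : FixOK 0 := by decide +kernel

theorem fix_values_1 : FixOK 1 := by decide +kernel

theorem fix_values_2 : FixOK 2 := by decide +kernel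

theorem fix_values_3 : FixOK 3 := by decide +kernel

theorem fix_values_4 : FixOK 4 := by decide +kernel

theorem fix_values_5 : FixOK 5 := by decide +kernel

theorem fix_values_6 : FixOK 6 := by decide +kernel

theorem fix_values : ∀ r : Fin 7,
    ((Finset.univ : Finset (Fin 2187)).filter fun n : Fin 2187 => uMat (rep r) *ᵥ vec n = vec n ∧ Q7 (vec n) = 0).card =
      ![81, 99, 27, 27, 9, 63, 9] r ∧
    ((Finset.univ : Finset (Fin 2187)).filter fun n : Fin 2187 => uMat (rep r) *ᵥ vec n = vec n ∧ Q7 (vec n) = 1).card =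
      ![108, 72, 0, 0, 18, 90, 0] r := by
  intro r
  fin_cases r
  exacts [fix_values_0, fix_values_1, fix_values_2, fix_values_3, fix_values_4, fix_values_5, fix_values_6]

/-- The skew parts of the two split representatives. -/
def skewLst (s : Bool) : List (List ℕ) :=
  [[0, 0, 0, 0, 0, if s then 1 else 2, 0], [0, 0, 0, 0, 0, 0, if s then 2 else 1], [0, 0, 0, 2, 0, 0, 0],
    [0, 0, 0, 0, 2, 0, 0]]

/-- The code of a split representative. -/
def splitCode (s : Bool) : ℕ := if s then 13365 else 6804

theorem split_facts : ∀ s : Bool, uMat (splitCode s) * uMat (splitCode s) * uMat (splitCode s) = 1 ∧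
    uMat (splitCode s) - uMat (splitCode s) * uMat (splitCode s) = toM (skewLst s) := by
  decide +kernel

/-- The trivector of a matrix on a coordinate triple, computed. -/
def trivVal (A : Matrix (Fin 7) (Fin 7) K) (a b c : Fin 7) : K := ∑ i, ∑ k, detExpand 7 fun r =>
  Matrix.vecCons (fun x => A x i) (Matrix.vecCons (fun x => gram x i) (Matrix.vecCons (fun x => A x k)
    (Matrix.vecCons (fun x => gram x k) ![Pi.single a 1, Pi.single b 1, Pi.single c 1]))) (finCongr hseven r)

/-- The form of a frame on a coordinate triple, computed. -/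
def ffVal (l : ℕ) (a b c : Fin 7) : K :=
  let m := fun (x : Fin 7) (i : Fin 3) =>
    (if (x : ℕ) = 3 then (2 : K) else 1) * ((lane (frP l i) (6 - (x : ℕ)) : ℕ) : K)
  m a 0 * m b 1 * m c 2 - m a 0 * m b 2 * m c 1 - m a 1 * m b 0 * m c 2 + m a 1 * m b 2 * m c 0 +
    m a 2 * m b 0 * m c 1 - m a 2 * m b 1 * m c 0

/-- The comparison of the computed forms at one coordinate. -/
def TrivOK (a : Fin 7) : Prop := ∀ b c : Fin 7, a = b ∨ a = c ∨ b = c ∨
  (trivVal (toM (skewLst true)) a b c = ffVal 0 a b c ∧ trivVal (toM (skewLst false)) a b c = -ffVal 0 a b c)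

instance (a : Fin 7) : Decidable (TrivOK a) := by unfold TrivOK; infer_instance

theorem triv_values_0 : TrivOK 0 := by decide +kernel

theorem triv_values_1 : TrivOK 1 := by decide +kernel

theorem triv_values_2 : TrivOK 2 := by decide +kernel

theorem triv_values_3 : TrivOK 3 := by decide +kernel

theorem triv_values_4 : TrivOK 4 := by decide +kernel

theorem triv_values_5 : TrivOK 5 := by decide +kernel

theorem triv_values_6 : TrivOK 6 := by decide +kernel

theorem triv_values : ∀ a b c : Fin 7, a = b ∨ a = c ∨ b = c ∨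
    (trivVal (toM (skewLst true)) a b c = ffVal 0 a b c ∧
      trivVal (toM (skewLst false)) a b c = -ffVal 0 a b c) := by
  intro a
  fin_cases a
  exacts [triv_values_0, triv_values_1, triv_values_2, triv_values_3, triv_values_4, triv_values_5, triv_values_6]

theorem frame_values : ∀ l : Fin 1120,
    ffVal l ⟨look witA 80 l % 7, Nat.mod_lt _ (by norm_num)⟩ ⟨look witA 80 l / 7 % 7, Nat.mod_lt _ (by norm_num)⟩
        ⟨look witA 80 l / 49 % 7, Nat.mod_lt _ (by norm_num)⟩ ≠
      -ffVal 0 ⟨look witA 80 l % 7, Nat.mod_lt _ (by norm_num)⟩ ⟨look witA 80 l / 7 % 7, Nat.mod_lt _ (by norm_num)⟩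
        ⟨look witA 80 l / 49 % 7, Nat.mod_lt _ (by norm_num)⟩ := by
  decide +kernel

end Cfsg.Lib.OmegaSeven
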